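import Cfsg.Agent.H439.Der.Three
import Cfsg.Agent.H372.FxPsuD

/-!
# S3502, the rows `PSU n F q`, `n ≥ 4`: primes dividing the order of `SU (n - 2) F q` (helper372)
-/

set_option autoImplicit false

namespace Cfsg.Agent.H372.DerU

open Cfsg Cfsg.Agent.H439.Der Cfsg.Agent.H372.FxU
open Cfsg.Agent.ClassicalGeometry.PSUAutBasic (pr pr_surjective pr_eq_one_iff)
open Cfsg.Agent.Phan (emb emb_injective)

theorem not_SCC_of_comm {T : Type*} [Group T] {v a b : ℕ} {x₁ y₁ x₂ y₂ : T} (hv : 0 < v) (hx₁ : orderOf x₁ = v)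
    (hy₁ : orderOf y₁ = a) (hx₂ : orderOf x₂ = v) (hy₂ : orderOf y₂ = b) (ha : Nat.Coprime v a)
    (hb : Nat.Coprime v b) (ha1 : a ≠ 1) (hb1 : b ≠ 1) (hab : a ≠ b) (h₁ : Commute x₁ y₁) (h₂ : Commute x₂ y₂) :
    ¬ SCC T v := by
  have e1 : orderOf (x₁ * y₁) = v * a := by
    rw [h₁.orderOf_mul_eq_mul_orderOf_of_coprime (by rw [hx₁, hy₁]; exact ha), hx₁, hy₁]
  have e2 : orderOf (x₂ * y₂) = v * b := by
    rw [h₂.orderOf_mul_eq_mul_orderOf_of_coprime (by rw [hx₂, hy₂]; exact hb), hx₂, hy₂]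
  refine not_SCC_of_orders (x := x₁) (y := x₁ * y₁) (z := x₂ * y₂) (by rw [hx₁]) (by rw [e1]; exact dvd_mul_right _ _)
    (by rw [e2]; exact dvd_mul_right _ _) ?_ ?_ ?_
  · rw [hx₁, e1]
    intro h
    exact ha1 (Nat.eq_of_mul_eq_mul_left hv (by rw [← h, mul_one]))
  · rw [hx₁, e2]
    intro h
    exact hb1 (Nat.eq_of_mul_eq_mul_left hv (by rw [← h, mul_one]))
  · rw [e1, e2]
    intro h
    exact hab (Nat.eq_of_mul_eq_mul_left hv h)

theorem three_primes {q : ℕ} (hq : 4 ≤ q) : ∃ a b c : ℕ, a.Prime ∧ b.Prime ∧ c.Prime ∧ a ≠ b ∧ a ≠ c ∧ b ≠ c ∧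
    a ∣ q * (q ^ 2 - 1) ∧ b ∣ q * (q ^ 2 - 1) ∧ c ∣ q * (q ^ 2 - 1) := by
  have e : q ^ 2 - 1 = (q - 1) * (q + 1) := by
    obtain ⟨v, rfl⟩ : ∃ v, q = v + 1 := ⟨q - 1, by omega⟩
    rw [Nat.add_sub_cancel]
    have : (v + 1) ^ 2 = v * (v + 1 + 1) + 1 := by ring
    omega
  have hp : ∀ {r : ℕ}, r.Prime → r ∣ q → ¬ r ∣ q + 1 ∧ ¬ r ∣ q - 1 := by
    intro r hr h
    refine ⟨fun h1 => hr.one_lt.ne' (Nat.dvd_one.1 ((Nat.dvd_add_right h).1 h1)), fun h1 => ?_⟩
    have h2 : r ∣ (q - 1) + 1 := by rwa [Nat.sub_add_cancel (by omega)]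
    exact hr.one_lt.ne' (Nat.dvd_one.1 ((Nat.dvd_add_right h1).1 h2))
  obtain ⟨p, hpp, hpq⟩ := Nat.exists_prime_and_dvd (n := q) (by omega)
  obtain ⟨n1, n2⟩ := hp hpp hpq
  rcases Nat.even_or_odd q with he | ho
  · -- `q` even
    obtain ⟨a, ha, ha1⟩ := Nat.exists_prime_and_dvd (n := q + 1) (by omega)
    obtain ⟨b, hb, hb1⟩ := Nat.exists_prime_and_dvd (n := q - 1) (by omega)
    refine ⟨p, a, b, hpp, ha, hb, fun h => n1 (h ▸ ha1), fun h => n2 (h ▸ hb1), ?_, Dvd.dvd.mul_right hpq _, ?_, ?_⟩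
    · rintro rfl
      have h1 : a ∣ (q + 1) - (q - 1) := Nat.dvd_sub ha1 hb1
      have h2 : (q + 1) - (q - 1) = 2 := by omega
      rw [h2] at h1
      have h3 := (Nat.prime_dvd_prime_iff_eq ha Nat.prime_two).1 h1
      rw [h3] at ha1
      have := he.two_dvd
      omega
    · rw [e]; exact Dvd.dvd.mul_left (Dvd.dvd.mul_left ha1 _) _
    · rw [e]; exact Dvd.dvd.mul_left (Dvd.dvd.mul_right hb1 _) _
  · -- `q` odd
    obtain ⟨k, hk⟩ := ho
    have h2 : 2 ∣ q + 1 := ⟨k + 1, by omega⟩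
    have hp2 : p ≠ 2 := fun h => n1 (h ▸ h2)
    obtain ⟨c, hc, hc2, hcp, hcd⟩ : ∃ c : ℕ, c.Prime ∧ c ≠ 2 ∧ c ≠ p ∧ c ∣ (q - 1) * (q + 1) := by
      rcases Nat.even_or_odd k with ⟨j, hj⟩ | ⟨j, hj⟩
      · -- `q + 1 = 2 (2 j + 1)`
        obtain ⟨c, hc, hc1⟩ := Nat.exists_prime_and_dvd (n := k + 1) (by omega)
        have h3 : c ∣ q + 1 := hc1.trans ⟨2, by omega⟩
        refine ⟨c, hc, ?_, fun h => n1 (h ▸ h3), Dvd.dvd.mul_left h3 _⟩
        rintro rfl
        omega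
      · -- `q - 1 = 2 (2 j + 1)`
        obtain ⟨c, hc, hc1⟩ := Nat.exists_prime_and_dvd (n := k) (by omega)
        have h3 : c ∣ q - 1 := hc1.trans ⟨2, by omega⟩
        refine ⟨c, hc, ?_, fun h => n2 (h ▸ h3), Dvd.dvd.mul_right h3 _⟩
        rintro rfl
        omega
    refine ⟨p, 2, c, hpp, Nat.prime_two, hc, hp2, hcp.symm, hc2.symm, Dvd.dvd.mul_right hpq _, ?_, ?_⟩
    · rw [e]; exact Dvd.dvd.mul_left (Dvd.dvd.mul_left h2 _) _
    · rw [e]; exact Dvd.dvd.mul_left hcd _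

theorem two_primes {q v : ℕ} (hq : 4 ≤ q) : ∃ a b : ℕ, a.Prime ∧ b.Prime ∧ a ≠ b ∧ v ≠ a ∧ v ≠ b ∧
    a ∣ q * (q ^ 2 - 1) ∧ b ∣ q * (q ^ 2 - 1) := by
  obtain ⟨a, b, c, ha, hb, hc, hab, hac, hbc, h1, h2, h3⟩ := three_primes hq
  by_cases e1 : v = a
  · exact ⟨b, c, hb, hc, hbc, fun h => hab (e1.symm.trans h), fun h => hac (e1.symm.trans h), h2, h3⟩
  by_cases e2 : v = b
  · exact ⟨a, c, ha, hc, hac, e1, fun h => hbc (e2.symm.trans h), h1, h3⟩
  · exact ⟨a, b, ha, hb, hab, e1, e2, h1, h2⟩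

variable {F : Type} [Field F] [Fintype F] {q n : ℕ}

/-- two primes `a ≠ b` dividing the order of a block, `v` dividing the order of the other one -/
theorem not_scc_of_blocks (hF : Fintype.card F = q ^ 2) (hn : 3 ≤ n) {k m : ℕ} (hk : 1 ≤ k) (hm : 1 ≤ m)
    (hkm : k + m ≤ n) {v : ℕ} (hv : v.Prime) (hd : v ∣ Nat.card ↥(SU k F q)) {a b : ℕ} (ha : a.Prime) (hb : b.Prime)
    (hab : a ≠ b) (hva : v ≠ a) (hvb : v ≠ b) (had : a ∣ Nat.card ↥(SU m F q)) (hbd : b ∣ Nat.card ↥(SU m F q)) :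
    ¬ SCC (PSU n F q) v := by
  obtain ⟨x, hx⟩ := exists_emb (F := F) (q := q) hv hd
  obtain ⟨y, hy⟩ := exists_emb (F := F) (q := q) ha had
  obtain ⟨z, hz⟩ := exists_emb (F := F) (q := q) hb hbd
  have hc : ∀ u : ↥(SU m F q), Commute (pr n F q (emb hF 0 (by omega : 0 + k ≤ n) x)) (pr n F q (emb hF k hkm u)) := by
    intro u
    show _ * _ = _ * _
    rw [← map_mul, emb_comm, map_mul]
  exact not_SCC_of_comm hv.pos (by rw [orderOf_emb hF hn _ (by omega), hx])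
    (by rw [orderOf_emb hF hn _ (by omega), hy]) (by rw [orderOf_emb hF hn _ (by omega), hx])
    (by rw [orderOf_emb hF hn _ (by omega), hz]) ((Nat.coprime_primes hv ha).2 hva) ((Nat.coprime_primes hv hb).2 hvb)
    ha.one_lt.ne' hb.one_lt.ne' hab (hc y) (hc z)

/-- **Primes dividing the order of `SU (n - 2) F q`.** -/
theorem not_scc_block (hF : Fintype.card F = q ^ 2) (hn : 4 ≤ n) (h : 4 ≤ q ∨ (q = 3 ∧ 5 ≤ n) ∨ (q = 2 ∧ 7 ≤ n))
    {v : ℕ} (hv : v.Prime) (hd : v ∣ Nat.card ↥(SU (n - 2) F q)) : ¬ SCC (PSU n F q) v := by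
  have hc2 := card_two (F := F) hF
  rcases h with h | ⟨rfl, h5⟩ | ⟨rfl, h7⟩
  · obtain ⟨a, b, ha, hb, hab, hva, hvb, h1, h2⟩ := two_primes (v := v) h
    exact not_scc_of_blocks hF (by omega) (k := n - 2) (m := 2) (by omega) (by norm_num) (by omega) hv hd ha hb hab hva
      hvb (by rw [hc2]; exact h1) (by rw [hc2]; exact h2)
  · by_cases hv2 : v = 2 ∨ v = 3
    · -- the element of order four of `SU₃(3)`
      obtain ⟨c, -, hc⟩ := exists_unit hF (s := 4) (by norm_num)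
      have hc1 : c ^ (3 + 1) = 1 := orderOf_dvd_iff_pow_eq_one.1 (by rw [hc])
      obtain ⟨z, -, hz, -⟩ := exists_D hF (k := 2) le_rfl hc1
      have hz4 : orderOf z = 4 := by
        rw [← hc]
        exact orderOf_eq_orderOf_iff.2 hz
      have hz2 : orderOf (z ^ 2) = 2 := by rw [orderOf_pow, hz4]; norm_num
      obtain ⟨b, hb⟩ := exists_emb (F := F) (q := 3) Nat.prime_three (m := 2) (by rw [hc2]; norm_num)
      have hcm : ∀ a : ↥(SU 3 F 3), Commute (pr n F 3 (emb hF 0 (by omega : 0 + 3 ≤ n) a))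
          (pr n F 3 (emb hF 3 (by omega : 3 + 2 ≤ n) b)) := by
        intro a
        show _ * _ = _ * _
        rw [← map_mul, emb_comm, map_mul]
      have o1 : orderOf (pr n F 3 (emb hF 0 (by omega : 0 + 3 ≤ n) z)) = 4 := by
        rw [orderOf_emb hF (by omega) _ (by omega), hz4]
      have o2 : orderOf (pr n F 3 (emb hF 0 (by omega : 0 + 3 ≤ n) (z ^ 2))) = 2 := by
        rw [orderOf_emb hF (by omega) _ (by omega), hz2]
      have o3 : orderOf (pr n F 3 (emb hF 3 (by omega : 3 + 2 ≤ n) b)) = 3 := by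
        rw [orderOf_emb hF (by omega) _ (by omega), hb]
      rcases hv2 with rfl | rfl
      · refine not_SCC_of_orders (x := pr n F 3 (emb hF 0 (by omega : 0 + 3 ≤ n) (z ^ 2)))
          (y := pr n F 3 (emb hF 0 (by omega : 0 + 3 ≤ n) z))
          (z := pr n F 3 (emb hF 0 (by omega : 0 + 3 ≤ n) (z ^ 2)) * pr n F 3 (emb hF 3 (by omega : 3 + 2 ≤ n) b)) ?_ ?_ ?_
          ?_ ?_ ?_ <;>
        simp only [(hcm (z ^ 2)).orderOf_mul_eq_mul_orderOf_of_coprime (by rw [o2, o3]; norm_num), o1, o2, o3] <;> norm_num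
      · exact not_SCC_of_comm (by norm_num) o3 o2 o3 o1 (by norm_num) (by norm_num) (by norm_num) (by norm_num)
          (by norm_num) (hcm (z ^ 2)).symm (hcm z).symm
    · push Not at hv2
      exact not_scc_of_blocks hF (by omega) (k := n - 2) (m := 2) (by omega) (by norm_num) (by omega) hv hd
        Nat.prime_two Nat.prime_three (by norm_num) hv2.1 hv2.2 (by rw [hc2]; norm_num) (by rw [hc2]; norm_num)
  · by_cases hv2 : v = 2 ∨ v = 3
    · have hc4 := card_four (F := F) hF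
      have hc3 := card_three (F := F) hF
      have h5p : Nat.Prime 5 := by norm_num
      rcases hv2 with rfl | rfl
      · -- `v = 2`: the orders 2, 6, 10
        obtain ⟨a, ha⟩ := exists_emb (F := F) (q := 2) Nat.prime_three (m := 4) (by rw [hc4]; norm_num)
        obtain ⟨a', ha'⟩ := exists_emb (F := F) (q := 2) h5p (m := 4) (by rw [hc4]; norm_num)
        obtain ⟨b, hb⟩ := exists_emb (F := F) (q := 2) Nat.prime_two (m := 3) (by rw [hc3]; norm_num)
        have hcm : ∀ a : ↥(SU 4 F 2), Commute (pr n F 2 (emb hF 4 (by omega : 4 + 3 ≤ n) b))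
            (pr n F 2 (emb hF 0 (by omega : 0 + 4 ≤ n) a)) := by
          intro a
          show _ * _ = _ * _
          rw [← map_mul, ← emb_comm, map_mul]
        have o : orderOf (pr n F 2 (emb hF 4 (by omega : 4 + 3 ≤ n) b)) = 2 := by
          rw [orderOf_emb hF (by omega) _ (by omega), hb]
        exact not_SCC_of_comm (by norm_num) o (by rw [orderOf_emb hF (by omega) _ (by omega), ha]) o
          (by rw [orderOf_emb hF (by omega) _ (by omega), ha']) (by norm_num) (by norm_num) (by norm_num) (by norm_num)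
          (by norm_num) (hcm a) (hcm a')
      · -- `v = 3`: the orders 3, 6, 15
        obtain ⟨a, ha⟩ := exists_emb (F := F) (q := 2) Nat.prime_two (m := 4) (by rw [hc4]; norm_num)
        obtain ⟨a', ha'⟩ := exists_emb (F := F) (q := 2) h5p (m := 4) (by rw [hc4]; norm_num)
        obtain ⟨b, hb⟩ := exists_emb (F := F) (q := 2) Nat.prime_three (m := 3) (by rw [hc3]; norm_num)
        have hcm : ∀ a : ↥(SU 4 F 2), Commute (pr n F 2 (emb hF 4 (by omega : 4 + 3 ≤ n) b))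
            (pr n F 2 (emb hF 0 (by omega : 0 + 4 ≤ n) a)) := by
          intro a
          show _ * _ = _ * _
          rw [← map_mul, ← emb_comm, map_mul]
        have o : orderOf (pr n F 2 (emb hF 4 (by omega : 4 + 3 ≤ n) b)) = 3 := by
          rw [orderOf_emb hF (by omega) _ (by omega), hb]
        exact not_SCC_of_comm (by norm_num) o (by rw [orderOf_emb hF (by omega) _ (by omega), ha]) o
          (by rw [orderOf_emb hF (by omega) _ (by omega), ha']) (by norm_num) (by norm_num) (by norm_num) (by norm_num)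
          (by norm_num) (hcm a) (hcm a')
    · push Not at hv2
      exact not_scc_of_blocks hF (by omega) (k := n - 2) (m := 2) (by omega) (by norm_num) (by omega) hv hd
        Nat.prime_two Nat.prime_three (by norm_num) hv2.1 hv2.2 (by rw [hc2]; norm_num) (by rw [hc2]; norm_num)

end Cfsg.Agent.H372.DerU
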