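import Mathlib

/-!
# S3502, the rows `PSU n F q`, `n ≥ 4`: numbers (helper372)
-/

set_option autoImplicit false

namespace Cfsg.Agent.H372.DerU

/-- the two inequalities for the large tori -/
def IneqA (n q : ℕ) : Prop := 2 * (n + 1) * q * Nat.gcd n (q + 1) * (q + 1) + 1 < q ^ n

def IneqB (n q : ℕ) : Prop := 2 * q * n ^ 2 * Nat.gcd n (q + 1) + (n - 1) < (n - 1) * q ^ (n - 1)

theorem lin {q c m : ℕ} (hq : 2 ≤ q) (h0 : c * (m + 1) + 1 < q ^ m) : ∀ n : ℕ, m ≤ n → c * (n + 1) + 1 < q ^ n := by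
  intro n hn
  induction n, hn using Nat.le_induction with
  | base => exact h0
  | succ n hn ih =>
    have h1 : c ≤ c * (n + 1) := Nat.le_mul_of_pos_right _ (by omega)
    have h2 : q ^ n * 2 ≤ q ^ (n + 1) := by rw [pow_succ]; exact Nat.mul_le_mul le_rfl hq
    rw [mul_add c (n + 1) 1, mul_one]
    omega

theorem quad {q c m : ℕ} (hq : 2 ≤ q) (hm : 3 ≤ m) (h0 : c * m ^ 2 + (m - 1) < (m - 1) * q ^ (m - 1)) :
    ∀ n : ℕ, m ≤ n → c * n ^ 2 + (n - 1) < (n - 1) * q ^ (n - 1) := by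
  intro n hn
  induction n, hn using Nat.le_induction with
  | base => exact h0
  | succ n hn ih =>
    obtain ⟨k, rfl⟩ : ∃ k, n = k + 3 := ⟨n - 3, by omega⟩
    have e1 : k + 3 - 1 = k + 2 := by omega
    have e2 : k + 3 + 1 - 1 = k + 3 := by omega
    rw [e1] at ih
    rw [e2]
    have h1 : c * (k + 3 + 1) ^ 2 + (k + 3) ≤ 2 * (c * (k + 3) ^ 2 + (k + 2)) := by
      have h3 : (k + 3 + 1) ^ 2 ≤ 2 * (k + 3) ^ 2 := by nlinarith
      have h4 : c * (k + 3 + 1) ^ 2 ≤ c * (2 * (k + 3) ^ 2) := Nat.mul_le_mul le_rfl h3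
      have h5 : c * (2 * (k + 3) ^ 2) = 2 * (c * (k + 3) ^ 2) := by ring
      omega
    have h2 : (k + 2) * q ^ (k + 2) * 2 ≤ (k + 3) * q ^ (k + 3) := by
      rw [pow_succ q (k + 2)]
      calc (k + 2) * q ^ (k + 2) * 2 = (k + 2) * (q ^ (k + 2) * 2) := by ring
        _ ≤ (k + 3) * (q ^ (k + 2) * q) := Nat.mul_le_mul (by omega) (Nat.mul_le_mul le_rfl hq)
    omega

theorem ineqA_seven {q : ℕ} (hq : 7 ≤ q) : ∀ n : ℕ, 4 ≤ n → 2 * (n + 1) * q * n * (q + 1) + 1 < q ^ n := by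
  intro n hn
  induction n, hn using Nat.le_induction with
  | base =>
    have h1 : 7 * 7 ≤ q * q := Nat.mul_le_mul hq hq
    have h2 : 49 * (q * q) ≤ q ^ 4 := by
      have : q ^ 4 = (q * q) * (q * q) := by ring
      rw [this]
      exact Nat.mul_le_mul (by omega) le_rfl
    nlinarith
  | succ n hn ih =>
    have h1 : (n + 1 + 1) * (n + 1) ≤ 2 * ((n + 1) * n) := by nlinarith
    have h2 : 2 * (n + 1 + 1) * q * (n + 1) * (q + 1) ≤ 2 * (2 * (n + 1) * q * n * (q + 1)) := by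
      calc 2 * (n + 1 + 1) * q * (n + 1) * (q + 1) = ((n + 1 + 1) * (n + 1)) * (2 * q * (q + 1)) := by ring
        _ ≤ (2 * ((n + 1) * n)) * (2 * q * (q + 1)) := Nat.mul_le_mul h1 le_rfl
        _ = 2 * (2 * (n + 1) * q * n * (q + 1)) := by ring
    have h3 : q ^ n * 2 ≤ q ^ (n + 1) := by rw [pow_succ]; exact Nat.mul_le_mul le_rfl (by omega)
    omega

theorem ineqB_seven {q : ℕ} (hq : 7 ≤ q) : ∀ n : ℕ, 4 ≤ n → 2 * q * n ^ 3 + (n - 1) < (n - 1) * q ^ (n - 1) := by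
  intro n hn
  induction n, hn using Nat.le_induction with
  | base =>
    have h1 : 7 * 7 ≤ q * q := Nat.mul_le_mul hq hq
    have h2 : 49 * q ≤ q ^ 3 := by
      have : q ^ 3 = (q * q) * q := by ring
      rw [this]
      exact Nat.mul_le_mul (by omega) le_rfl
    norm_num
    omega
  | succ n hn ih =>
    obtain ⟨k, rfl⟩ : ∃ k, n = k + 4 := ⟨n - 4, by omega⟩
    have e1 : k + 4 - 1 = k + 3 := by omega
    have e2 : k + 4 + 1 - 1 = k + 4 := by omega
    rw [e1] at ih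
    rw [e2]
    have h1 : 2 * q * (k + 4 + 1) ^ 3 + (k + 4) ≤ 2 * (2 * q * (k + 4) ^ 3 + (k + 3)) := by
      have h3 : (k + 4 + 1) ^ 3 ≤ 2 * (k + 4) ^ 3 := by
        have : 2 * (k + 4) ^ 3 = (k + 4 + 1) ^ 3 + (k ^ 3 + 9 * k ^ 2 + 21 * k + 3) := by ring
        omega
      have h4 : 2 * q * (k + 4 + 1) ^ 3 ≤ 2 * q * (2 * (k + 4) ^ 3) := Nat.mul_le_mul le_rfl h3
      have h5 : 2 * q * (2 * (k + 4) ^ 3) = 2 * (2 * q * (k + 4) ^ 3) := by ring
      omega
    have h2 : (k + 3) * q ^ (k + 3) * 2 ≤ (k + 4) * q ^ (k + 4) := by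
      rw [pow_succ q (k + 3)]
      calc (k + 3) * q ^ (k + 3) * 2 = (k + 3) * (q ^ (k + 3) * 2) := by ring
        _ ≤ (k + 4) * (q ^ (k + 3) * q) := Nat.mul_le_mul (by omega) (Nat.mul_le_mul le_rfl (by omega))
    omega

theorem ineqA_small {q c m : ℕ} (hq : 2 ≤ q) (hc : ∀ n, Nat.gcd n (q + 1) ≤ c)
    (h0 : (2 * q * c * (q + 1)) * (m + 1) + 1 < q ^ m) {n : ℕ} (hn : m ≤ n) : IneqA n q := by
  have h1 := lin hq h0 n hn
  refine lt_of_le_of_lt (Nat.add_le_add_right ?_ 1) h1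
  calc 2 * (n + 1) * q * Nat.gcd n (q + 1) * (q + 1) ≤ 2 * (n + 1) * q * c * (q + 1) :=
        Nat.mul_le_mul (Nat.mul_le_mul le_rfl (hc n)) le_rfl
    _ = (2 * q * c * (q + 1)) * (n + 1) := by ring

theorem ineqB_small {q c m : ℕ} (hq : 2 ≤ q) (hm : 3 ≤ m) (hc : ∀ n, Nat.gcd n (q + 1) ≤ c)
    (h0 : (2 * q * c) * m ^ 2 + (m - 1) < (m - 1) * q ^ (m - 1)) {n : ℕ} (hn : m ≤ n) : IneqB n q := by
  have h1 := quad hq hm h0 n hn
  refine lt_of_le_of_lt (Nat.add_le_add_right ?_ _) h1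
  calc 2 * q * n ^ 2 * Nat.gcd n (q + 1) ≤ 2 * q * n ^ 2 * c := Nat.mul_le_mul le_rfl (hc n)
    _ = (2 * q * c) * n ^ 2 := by ring

theorem ineqs {n q : ℕ} (hn : 4 ≤ n) (hq : 2 ≤ q) (hq6 : q ≠ 6)
    (hex : (n, q) ∉ ({(4, 2), (4, 3), (5, 2), (6, 2)} : Finset (ℕ × ℕ))) :
    (¬ (n = 5 ∧ q = 4) → IneqA n q) ∧ IneqB n q := by
  simp only [Finset.mem_insert, Finset.mem_singleton, Prod.mk.injEq, not_or, not_and] at hex
  rcases Nat.lt_or_ge q 7 with h7 | h7
  · have hc : ∀ (k : ℕ), 0 < k → ∀ m : ℕ, Nat.gcd m k ≤ k := fun k hk m => Nat.gcd_le_right _ hk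
    interval_cases q
    · rcases Nat.lt_or_ge n 9 with h8 | h8
      · have : n = 7 ∨ n = 8 := by omega
        rcases this with rfl | rfl
        · exact ⟨fun _ => by unfold IneqA; norm_num, by unfold IneqB; norm_num⟩
        · exact ⟨fun _ => by unfold IneqA; norm_num, by unfold IneqB; norm_num⟩
      · exact ⟨fun _ => ineqA_small (q := 2) (c := 3) (m := 9) (by norm_num) (hc 3 (by norm_num)) (by norm_num) h8,
          ineqB_small (q := 2) (c := 3) (m := 9) (by norm_num) (by norm_num) (hc 3 (by norm_num)) (by norm_num) h8⟩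
    · rcases Nat.lt_or_ge n 6 with h8 | h8
      · have : n = 5 := by omega
        subst this
        exact ⟨fun _ => by unfold IneqA; norm_num, by unfold IneqB; norm_num⟩
      · exact ⟨fun _ => ineqA_small (q := 3) (c := 4) (m := 6) (by norm_num) (hc 4 (by norm_num)) (by norm_num) h8,
          ineqB_small (q := 3) (c := 4) (m := 6) (by norm_num) (by norm_num) (hc 4 (by norm_num)) (by norm_num) h8⟩
    · rcases Nat.lt_or_ge n 6 with h8 | h8
      · have : n = 4 ∨ n = 5 := by omega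
        rcases this with rfl | rfl
        · exact ⟨fun _ => by unfold IneqA; norm_num, by unfold IneqB; norm_num⟩
        · exact ⟨fun h => absurd ⟨rfl, rfl⟩ h, by unfold IneqB; norm_num⟩
      · exact ⟨fun _ => ineqA_small (q := 4) (c := 5) (m := 6) (by norm_num) (hc 5 (by norm_num)) (by norm_num) h8,
          ineqB_small (q := 4) (c := 5) (m := 6) (by norm_num) (by norm_num) (hc 5 (by norm_num)) (by norm_num) h8⟩
    · rcases Nat.lt_or_ge n 5 with h8 | h8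
      · have : n = 4 := by omega
        subst this
        exact ⟨fun _ => by unfold IneqA; norm_num, by unfold IneqB; norm_num⟩
      · exact ⟨fun _ => ineqA_small (q := 5) (c := 6) (m := 5) (by norm_num) (hc 6 (by norm_num)) (by norm_num) h8,
          ineqB_small (q := 5) (c := 6) (m := 5) (by norm_num) (by norm_num) (hc 6 (by norm_num)) (by norm_num) h8⟩
    · exact absurd rfl hq6
  · have hg : Nat.gcd n (q + 1) ≤ n := Nat.gcd_le_left _ (by omega)
    refine ⟨fun _ => lt_of_le_of_lt (Nat.add_le_add_right ?_ 1) (ineqA_seven h7 n hn),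
      lt_of_le_of_lt (Nat.add_le_add_right ?_ _) (ineqB_seven h7 n hn)⟩
    · exact Nat.mul_le_mul (Nat.mul_le_mul le_rfl hg) le_rfl
    · calc 2 * q * n ^ 2 * Nat.gcd n (q + 1) ≤ 2 * q * n ^ 2 * n := Nat.mul_le_mul le_rfl hg
        _ = 2 * q * n ^ 3 := by ring

end Cfsg.Agent.H372.DerU
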