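import Cfsg.Agent.H372.DerU.Fuse
import Cfsg.Agent.H372.DerU.Block
import Cfsg.Agent.H372.DerU.Num

/-!
# S3502, the rows `PSU n F q`, `n ≥ 4`: `NTC` (helper372)

* `ntc_psu` : `NTC (PSU n F q)` for `n ≥ 4`, `(n, q) ≠ (4, 2), (4, 3), (5, 2), (6, 2), (5, 4)`.
* `ntc_ne`  : the primes different from `41` for `(5, 4)`.
-/

set_option autoImplicit false

namespace Cfsg.Agent.H372.DerU

open Cfsg Cfsg.Agent.H439.Der Cfsg.Agent.H403 Cfsg.Agent.H403.NumTop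
open Cfsg.Agent.LieClassical.HermBasic
open Cfsg.Agent.H948.UBase Cfsg.Agent.H948.UProd Cfsg.Agent.H948.UTorus Cfsg.Agent.H948.UMain

theorem ph_iff {q i v : ℕ} (hq : 1 ≤ q) : v ∣ ph q i ↔ ((xv false q : ℤ) : ZMod v) ^ (i + 1) = 1 := by
  have h1 := Cfsg.Agent.H360.Iso.ph_cast hq i
  have h2 : ((xv false q : ℤ) : ZMod v) = -(q : ZMod v) := by simp [xv]
  have h3 : ((-1 : ZMod v)) ^ (i + 1) * (-1) ^ (i + 1) = 1 := by rw [← mul_pow]; norm_num
  rw [h2, neg_pow, ← ZMod.natCast_eq_zero_iff]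
  have h4 : ((ph q i : ℕ) : ZMod v) = (q : ZMod v) ^ (i + 1) - (-1) ^ (i + 1) := by
    have := congrArg (fun z : ℤ => (z : ZMod v)) h1
    simpa using this
  rw [h4, sub_eq_zero]
  constructor
  · intro h
    rw [h, h3]
  · intro h
    calc (q : ZMod v) ^ (i + 1) = ((-1) ^ (i + 1) * (-1) ^ (i + 1)) * (q : ZMod v) ^ (i + 1) := by rw [h3, one_mul]
      _ = (-1) ^ (i + 1) * ((-1) ^ (i + 1) * (q : ZMod v) ^ (i + 1)) := by ring
      _ = (-1) ^ (i + 1) := by rw [h, mul_one]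

theorem order_sub {n q v : ℕ} (hq : 1 ≤ q) (hn : 2 ≤ n) (hlt : ∀ i : ℕ, i < n - 2 → ¬ v ∣ ph q i)
    (h : v ∣ ph q (n - 2)) : orderOf ((xv false q : ℤ) : ZMod v) = n - 1 := by
  have h1 := (ph_iff hq).1 h
  have e : n - 2 + 1 = n - 1 := by omega
  rw [e] at h1
  have h2 := orderOf_dvd_of_pow_eq_one h1
  have h3 := Nat.le_of_dvd (by omega) h2
  have h4 : 0 < orderOf ((xv false q : ℤ) : ZMod v) := Nat.pos_of_dvd_of_pos h2 (by omega)
  by_contra hne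
  refine hlt (orderOf ((xv false q : ℤ) : ZMod v) - 1) (by omega) ((ph_iff hq).2 ?_)
  rw [Nat.sub_add_cancel h4, pow_orderOf_eq_one]

theorem order_top {n q v : ℕ} (hq : 1 ≤ q) (hn : 3 ≤ n) (hlt : ∀ i : ℕ, i < n - 2 → ¬ v ∣ ph q i)
    (h : v ∣ ph q (n - 1)) : orderOf ((xv false q : ℤ) : ZMod v) = n := by
  have h1 := (ph_iff hq).1 h
  have e : n - 1 + 1 = n := by omega
  rw [e] at h1
  have h2 := orderOf_dvd_of_pow_eq_one h1
  have h3 := Nat.le_of_dvd (by omega) h2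
  have h4 : 0 < orderOf ((xv false q : ℤ) : ZMod v) := Nat.pos_of_dvd_of_pos h2 (by omega)
  by_contra hne
  rcases Nat.lt_or_ge (orderOf ((xv false q : ℤ) : ZMod v)) (n - 1) with h5 | h5
  · refine hlt (orderOf ((xv false q : ℤ) : ZMod v) - 1) (by omega) ((ph_iff hq).2 ?_)
    rw [Nat.sub_add_cancel h4, pow_orderOf_eq_one]
  · have h6 : orderOf ((xv false q : ℤ) : ZMod v) = n - 1 := by omega
    rw [h6] at h2
    have h7 : n - 1 ∣ (n - 1) + 1 := by rwa [Nat.sub_add_cancel (by omega)]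
    have h8 := Nat.dvd_one.1 ((Nat.dvd_add_right dvd_rfl).1 h7)
    omega

theorem pow_le_ph (q i : ℕ) (hq : 1 ≤ q) : q ^ (i + 1) ≤ ph q i + 1 := by
  have h1 : 1 ≤ q ^ (i + 1) := Nat.one_le_pow _ _ hq
  unfold ph
  split_ifs <;> omega

variable {F : Type} [Field F] [Fintype F] {n q : ℕ}

/-- **Primes for which `-q` has order `n - 1`** -/
theorem not_scc_sub (hF : Fintype.card F = q ^ 2) (hn : 3 ≤ n) (h32 : ¬ (n = 3 ∧ q = 2)) (hI : IneqB n q) {v : ℕ}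
    (hv : v.Prime) (hvq1 : ¬ v ∣ q + 1) (hord : orderOf ((xv false q : ℤ) : ZMod v) = n - 1)
    (h : v ∣ ph q (n - 2)) : ¬ SCC (PSU n F q) v := by
  intro hs
  have hq := two_le hF
  have hfin : Finite (PSU n F q) := inferInstance
  have hvg : ¬ v ∣ Nat.gcd n (q + 1) := fun h => hvq1 (h.trans (Nat.gcd_dvd_right _ _))
  have hg0 : 0 < Nat.gcd n (q + 1) := Nat.gcd_pos_of_pos_right _ (by omega)
  obtain ⟨x, hx⟩ := Cfsg.Agent.H360.Iso.exists_subU hF (n := n) (by omega)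
  have h5 : v ∣ orderOf x := ((hv.dvd_mul).1 (h.trans hx)).resolve_right hvg
  have hb := scc_bound hF hn h32 hv hord (by omega) (by omega) h5 hs
  have hvn : n ≤ v := by
    have h6 := order_dvd_pred hv (by omega) hord
    have h7 := Nat.le_of_dvd (by have := hv.two_le; omega) h6
    omega
  have h8 := Nat.le_of_dvd (Nat.mul_pos (orderOf_pos x) hg0) hx
  have h9 := pow_le_ph q (n - 2) (by omega)
  have e : n - 2 + 1 = n - 1 := by omega
  rw [e] at h9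
  have hA := Cfsg.Agent.H219.RowPsu.card_aut_le hF
  obtain ⟨N, hN⟩ : ∃ N, N = orderOf x := ⟨_, rfl⟩
  obtain ⟨A, hA'⟩ : ∃ A, A = Nat.card (F ≃+* F) := ⟨_, rfl⟩
  obtain ⟨g, hg⟩ : ∃ g, g = Nat.gcd n (q + 1) := ⟨_, rfl⟩
  unfold IneqB at hI
  rw [← hg] at h8 hI
  rw [← hN] at h8 hb
  rw [← hA'] at hb hA
  -- `(n - 1) N ≤ 2 q n²`
  have h10 : N / v ≤ N / n := Nat.div_le_div_left hvn (by omega)
  have h11 : n * (N / n) ≤ N := Nat.mul_div_le N n
  have h12 : A * n ≤ q * n := Nat.mul_le_mul hA le_rfl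
  obtain ⟨k, rfl⟩ : ∃ k, n = k + 1 := ⟨n - 1, by omega⟩
  rw [Nat.add_sub_cancel] at hI h9
  have h13 : k * N ≤ 2 * q * (k + 1) ^ 2 := by
    have h14 : (k + 1) * N ≤ (k + 1) * (2 * (q * (k + 1)) + N / (k + 1)) := Nat.mul_le_mul le_rfl (by omega)
    nlinarith
  have h15 : k * q ^ k ≤ k * (N * g + 1) := Nat.mul_le_mul le_rfl (by omega)
  have h16 : k * N * g ≤ 2 * q * (k + 1) ^ 2 * g := Nat.mul_le_mul h13 le_rfl
  have h17 : k * (N * g + 1) = k * N * g + k := by ring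
  omega

/-- **Primes for which `-q` has order `n`** -/
theorem not_scc_top (hF : Fintype.card F = q ^ 2) (hn : 3 ≤ n) (h32 : ¬ (n = 3 ∧ q = 2)) (hI : IneqA n q) {v : ℕ}
    (hv : v.Prime) (hvq1 : ¬ v ∣ q + 1) (hord : orderOf ((xv false q : ℤ) : ZMod v) = n)
    (h : v ∣ ph q (n - 1)) : ¬ SCC (PSU n F q) v := by
  intro hs
  have hq := two_le hF
  have hfin : Finite (PSU n F q) := inferInstance
  have hvg : ¬ v ∣ Nat.gcd n (q + 1) := fun h => hvq1 (h.trans (Nat.gcd_dvd_right _ _))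
  have hg0 : 0 < Nat.gcd n (q + 1) := Nat.gcd_pos_of_pos_right _ (by omega)
  obtain ⟨x, hx⟩ := Cfsg.Agent.H360.Iso.exists_topU hF (n := n) (by omega)
  have h5 : v ∣ orderOf x := ((hv.dvd_mul).1 (((hv.dvd_mul).1 (h.trans hx)).resolve_right hvq1)).resolve_right hvg
  have hb := scc_bound hF hn h32 hv hord (by omega) (by omega) h5 hs
  have hvn : n + 1 ≤ v := by
    have h6 := order_dvd_pred hv (by omega) hord
    have h7 := Nat.le_of_dvd (by have := hv.two_le; omega) h6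
    omega
  have h8 := Nat.le_of_dvd (Nat.mul_pos (Nat.mul_pos (orderOf_pos x) hg0) (by omega)) hx
  have h9 := pow_le_ph q (n - 1) (by omega)
  have e : n - 1 + 1 = n := by omega
  rw [e] at h9
  have hA := Cfsg.Agent.H219.RowPsu.card_aut_le hF
  obtain ⟨N, hN⟩ : ∃ N, N = orderOf x := ⟨_, rfl⟩
  obtain ⟨A, hA'⟩ : ∃ A, A = Nat.card (F ≃+* F) := ⟨_, rfl⟩
  obtain ⟨g, hg⟩ : ∃ g, g = Nat.gcd n (q + 1) := ⟨_, rfl⟩
  unfold IneqA at hI
  rw [← hg] at h8 hI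
  rw [← hN] at h8 hb
  rw [← hA'] at hb hA
  have h10 : N / v ≤ N / (n + 1) := Nat.div_le_div_left hvn (by omega)
  have h11 : (n + 1) * (N / (n + 1)) ≤ N := Nat.mul_div_le N (n + 1)
  have h12 : A * n ≤ q * n := Nat.mul_le_mul hA le_rfl
  -- `N ≤ 2 (n + 1) q`
  have h13 : N ≤ 2 * (n + 1) * q := by
    have h14 : (n + 1) * N ≤ (n + 1) * (2 * (q * n) + N / (n + 1)) := Nat.mul_le_mul le_rfl (by omega)
    have h15 : n * N ≤ n * (2 * (n + 1) * q) := by nlinarith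
    exact Nat.le_of_mul_le_mul_left h15 (by omega)
  have h16 : N * g * (q + 1) ≤ 2 * (n + 1) * q * g * (q + 1) :=
    Nat.mul_le_mul (Nat.mul_le_mul h13 le_rfl) le_rfl
  omega

theorem ne_six (hF : Fintype.card F = q ^ 2) : q ≠ 6 := by
  rintro rfl
  obtain ⟨p, k, hp, -, hk, -⟩ := exists_prime_pow hF
  have h2 := (Nat.prime_dvd_prime_iff_eq Nat.prime_two hp).1
    (Nat.prime_two.dvd_of_dvd_pow (hk ▸ (by norm_num : 2 ∣ 6)))
  have h3 := (Nat.prime_dvd_prime_iff_eq Nat.prime_three hp).1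
    (Nat.prime_three.dvd_of_dvd_pow (hk ▸ (by norm_num : 3 ∣ 6)))
  omega

/-- the primes of `PSU n F q` -/
theorem ntc_aux (hF : Fintype.card F = q ^ 2) (hn : 4 ≤ n)
    (hex : (n, q) ∉ ({(4, 2), (4, 3), (5, 2), (6, 2)} : Finset (ℕ × ℕ))) {v : ℕ} (hv : v.Prime)
    (hd : v ∣ Nat.card (PSU n F q)) (h54 : n = 5 → q = 4 → ¬ v ∣ ph q 4) : ¬ SCC (PSU n F q) v := by
  have hq := two_le hF
  have hq6 := ne_six hF
  obtain ⟨hIA, hIB⟩ := ineqs hn hq hq6 hex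
  have hcond : 4 ≤ q ∨ (q = 3 ∧ 5 ≤ n) ∨ (q = 2 ∧ 7 ≤ n) := by
    simp only [Finset.mem_insert, Finset.mem_singleton, Prod.mk.injEq, not_or, not_and] at hex
    omega
  by_cases hvq : v ∣ q
  · refine not_scc_block hF hn hcond hv ?_
    have h1 : Nat.card (SU 2 F q) ∣ Nat.card (SU (n - 2) F q) := H372.FxU.card_dvd hF (by omega)
    refine dvd_trans ?_ h1
    rw [H372.FxU.card_two hF]
    exact Dvd.dvd.mul_right hvq _
  by_cases hlt : ∀ i : ℕ, i < n - 2 → ¬ v ∣ ph q i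
  swap
  · push Not at hlt
    obtain ⟨i, hi, hid⟩ := hlt
    exact not_scc_block hF hn hcond hv (dvd_card_SU hF (by omega) hi hid)
  have hvq1 : ¬ v ∣ q + 1 := fun h => hlt 0 (by omega) (by rw [ph_zero]; exact h)
  rcases (prime_dvd_card_PSU hF (by omega) hv hd) with h | ⟨i, hi, hid⟩
  · exact absurd h hvq
  rcases Nat.lt_or_ge i (n - 2) with h3 | h3
  · exact absurd hid (hlt i h3)
  rcases Nat.lt_or_ge i (n - 1) with h4 | h4
  · obtain rfl : i = n - 2 := by omega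
    exact not_scc_sub hF (by omega) (by omega) hIB hv hvq1 (order_sub (by omega) (by omega) hlt hid) hid
  · obtain rfl : i = n - 1 := by omega
    refine not_scc_top hF (by omega) (by omega) (hIA ?_) hv hvq1 (order_top (by omega) (by omega) hlt hid) hid
    rintro ⟨rfl, rfl⟩
    exact h54 rfl rfl hid

/-- **`NTC` for `PSU n F q`** -/
theorem ntc_psu (hF : Fintype.card F = q ^ 2) (hn : 4 ≤ n)
    (hex : (n, q) ∉ ({(4, 2), (4, 3), (5, 2), (6, 2)} : Finset (ℕ × ℕ))) (h54 : ¬ (n = 5 ∧ q = 4)) :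
    NTC (PSU n F q) := fun _ hv hd => ntc_aux hF hn hex hv hd fun h1 h2 => absurd ⟨h1, h2⟩ h54

/-- the primes of `PSU 5 F 4` -/
theorem ntc_ne (hF : Fintype.card F = 4 ^ 2) {v : ℕ} (hv : v.Prime) (hd : v ∣ Nat.card (PSU 5 F 4)) (h41 : v ≠ 41) :
    ¬ SCC (PSU 5 F 4) v := by
  by_cases h : v ∣ ph 4 4
  · have h1 : ph 4 4 = 5 * 5 * 41 := by unfold ph; norm_num [Nat.even_iff]
    rw [h1] at h
    have h5 : v = 5 := by
      rcases hv.dvd_mul.1 h with h2 | h2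
      · rcases hv.dvd_mul.1 h2 with h3 | h3
        · exact (Nat.prime_dvd_prime_iff_eq hv (by norm_num)).1 h3
        · exact (Nat.prime_dvd_prime_iff_eq hv (by norm_num)).1 h3
      · exact absurd ((Nat.prime_dvd_prime_iff_eq hv (by norm_num)).1 h2) h41
    subst h5
    exact not_scc_block hF (by norm_num) (Or.inl le_rfl) hv
      (dvd_card_SU hF (by norm_num) (i := 0) (by norm_num) (by rw [ph_zero]))
  · exact ntc_aux hF (by norm_num) (by decide) hv hd fun _ _ => h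

end Cfsg.Agent.H372.DerU
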