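import Cfsg.Agent.H372.DerU.Psu
import Cfsg.Agent.H104.DerU54

/-!
# S3502, the row `PSU_n(q)`, `n ≥ 4`: all cases (helper372)
-/

set_option autoImplicit false

namespace Cfsg.Agent.H372.DerU

open Cfsg Cfsg.Agent.OrdDiv
open Cfsg.Agent.H439.Der

/-- **The row `PSU_n(q)`, `n ≥ 4`.** -/
theorem rowS_psu (tab : OrderTable.{0}) (hK : ∀ (X : Type) [Group X] [Finite X] [IsSimpleGroup X],
    Cfsg.IsKnownSimple' X) {F : Type} [Field F] [Fintype F] {n q : ℕ} (hF : Fintype.card F = q ^ 2) (hn : 4 ≤ n)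
    (hex : (n, q) ∉ ({(4, 2), (4, 3), (5, 2), (6, 2)} : Finset (ℕ × ℕ))) : RowS (Cfsg.PSU n F q) := by
  refine rowS_psu_of tab hK hF hn hex ?_
  rintro rfl rfl
  exact H104.U54.rowS_psu54 tab hK hF

end Cfsg.Agent.H372.DerU
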