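import Cfsg.Agent.H439.Der.Three
import Cfsg.Agent.H219.RowPsu
import Cfsg.Agent.H272.NFUEv
import Cfsg.Agent.H403.LinAdj

/-!
# S3502, the rows `PSU n F q`: at most two `Aut`-classes of `v`-singular elements in a large torus (helper372)

* `pow_eq_of_ev` : `y` an eigenvalue of `Y ∈ SU n F q` of order divisible by a prime `v`, `-q` of order `≥ n - 1` modulo `v`:
  if `y ^ m = ζ` with `ζ ^ n = ζ ^ (q + 1) = 1` then `Y ^ m = ζ`.
* `scc_bound` : `SCC (PSU n F q) v` and `v ∣ orderOf x`: `orderOf x ≤ 2 * (|Aut F| * n) + orderOf x / v`.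
-/

set_option autoImplicit false
set_option linter.unusedSectionVars false

namespace Cfsg.Agent.H372.DerU

open Cfsg Matrix Polynomial
open Cfsg.Agent.H439.Der
open Cfsg.Agent.LieClassical.HermBasic Cfsg.Agent.LieClassical.HermSiegel Cfsg.Agent.LieClassical.SUBasic
open Cfsg.Agent.ClassicalGeometry.PSUAutBasic
open Cfsg.Agent.H272.NFU Cfsg.Agent.H403 Cfsg.Agent.H403.NumTop

variable {F : Type} [Field F] [Fintype F] {n q : ℕ}

section ev

variable {E : Type} [Field E] [IsAlgClosed E] [Algebra F E]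

theorem prod_evs (Y : SU n F q) : (evs E (mt Y)).prod = 1 := by
  rw [evs_eq_roots, ← Matrix.det_eq_prod_roots_charpoly, mE, ← RingHom.map_det, det_mt, map_one]

/-- the norm one scalars are fixed by `y ↦ y ^ (-q)` -/
theorem zeta_fix {z : E} (h : z ^ (q + 1) = 1) : z ^ (xv false q) = z := by
  have h0 : z ≠ 0 := by
    rintro rfl
    rw [zero_pow (Nat.succ_ne_zero q)] at h
    exact zero_ne_one h
  have h1 : xv false q = 1 - ((q + 1 : ℕ) : ℤ) := by simp [xv]
  rw [h1, zpow_sub₀ h0, zpow_one, zpow_natCast, h, div_one]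

theorem zeta_fix_pow {z : E} (h : z ^ (q + 1) = 1) (j : ℕ) : z ^ (xv false q ^ j) = z := by
  induction j with
  | zero => simp
  | succ j ih => rw [pow_succ, _root_.zpow_mul, ih, zeta_fix h]

/-- the eigenvalues of an element of large order -/
theorem evs_struct (hF : Fintype.card F = q ^ 2) {v e : ℕ} (hv : v.Prime)
    (he : orderOf ((xv false q : ℤ) : ZMod v) = e) (he2 : 2 ≤ e) (hne : n ≤ e + 1) {Y : SU n F q} {y : E}
    (hy : y ∈ evs E (mt Y)) (hvy : v ∣ orderOf y) :
    (evs E (mt Y)).Nodup ∧ ∀ m : ℕ, ∀ z : E, z ^ n = 1 → z ^ (q + 1) = 1 → y ^ m = z → ∀ w ∈ evs E (mt Y), w ^ m = z := by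
  have hM : Cl (xv false q) (evs E (mt Y)) := cl_mt hF Y
  have hy0 := hM.ne_zero hy
  have hcard := card_evs_mt (E := E) Y
  -- the period of `y`
  have hper : per (xv false q) y = e := by
    rcases Nat.eq_zero_or_pos (orderOf y) with h0 | h0
    · exfalso
      have h1 := hM.per_pos hy
      have h2 := pow_per (xv false q) y
      have h3 : (Units.mk0 y hy0) ^ (xv false q ^ per (xv false q) y - 1) = 1 := by
        apply Units.ext
        rw [Units.val_zpow_eq_zpow_val, Units.val_mk0, zpow_sub₀ hy0, h2, zpow_one, div_self hy0, Units.val_one]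
      have h4 := orderOf_dvd_iff_zpow_eq_one.2 h3
      rw [← orderOf_units, Units.val_mk0, h0, Nat.cast_zero, zero_dvd_iff] at h4
      have h5 : xv false q ^ per (xv false q) y = 1 := by omega
      have h6 : Int.natAbs (xv false q) ^ per (xv false q) y = 1 := by rw [← Int.natAbs_pow, h5]; rfl
      have h7 : Int.natAbs (xv false q) = q := by simp [xv]
      rw [h7] at h6
      have h8 := Nat.one_lt_pow h1.ne' (two_le hF)
      omega
    · refine per_eq hM hy hv (A := orderOf y / v) he ?_ ?_ (by rw [hcard]; omega)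
      · rw [← pow_mul, Nat.div_mul_cancel hvy, pow_orderOf_eq_one]
      · intro h
        have h1 := orderOf_dvd_of_pow_eq_one h
        have h2 := Nat.le_of_dvd (Nat.div_pos (Nat.le_of_dvd h0 hvy) hv.pos) h1
        have h3 := Nat.div_lt_self h0 hv.one_lt
        omega
  have hle : e ≤ n := by
    rw [← hcard, ← hper, ← card_orb]
    exact Multiset.card_le_card (hM.orb_le hy)
  have horb : ∀ m : ℕ, ∀ z : E, z ^ (q + 1) = 1 → y ^ m = z → ∀ w ∈ orb (xv false q) y, w ^ m = z := by
    intro m z hz hm w hw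
    obtain ⟨j, -, rfl⟩ := Multiset.mem_map.1 hw
    rw [zpow_pow_comm, hm, zeta_fix_pow hz]
  rcases Nat.lt_or_ge e n with hlt | hge
  · obtain ⟨μ, hμ, hμx⟩ := eq_cons_orb hM hy (by rw [hcard, hper]; omega)
    have hnot : μ ∉ orb (xv false q) y := by
      intro hmem
      obtain ⟨j, -, hj⟩ := Multiset.mem_map.1 hmem
      have h1 : y ^ (xv false q) = y := by
        have hinj : Function.Injective fun u : E => u ^ (xv false q ^ j) := by
          have h2 := hM.inj.iterate j
          intro a b hab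
          apply h2
          rw [iterate_zpow, iterate_zpow]
          exact hab
        apply hinj
        show (y ^ (xv false q)) ^ (xv false q ^ j) = y ^ (xv false q ^ j)
        rw [zpow_zpow_comm]
        show (y ^ (xv false q ^ j)) ^ (xv false q) = _
        have hj' : y ^ (xv false q ^ j) = μ := hj
        rw [hj', hμx]
      have h2 : per (xv false q) y ≤ 1 := by
        refine Nat.le_of_dvd one_pos ?_
        unfold per
        exact (Function.isPeriodicPt_iff_minimalPeriod_dvd).1 (show Function.IsPeriodicPt _ 1 y from h1)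
      omega
    refine ⟨?_, fun m z hzn hz hm w hw => ?_⟩
    · rw [hμ, Multiset.nodup_cons]
      exact ⟨hnot, orb_nodup _ _⟩
    · rw [hμ, Multiset.mem_cons] at hw
      rcases hw with rfl | hw
      · have h1 := prod_evs (E := E) Y
        rw [hμ, Multiset.prod_cons] at h1
        have h2 : ((orb (xv false q) y).map fun u => u ^ m).prod = z ^ e := by
          have h3 : (orb (xv false q) y).map (fun u => u ^ m) = Multiset.replicate e z := by
            rw [Multiset.eq_replicate]
            refine ⟨by rw [Multiset.card_map, card_orb, hper], fun b hb => ?_⟩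
            obtain ⟨u, hu, rfl⟩ := Multiset.mem_map.1 hb
            exact horb m z hz hm u hu
          rw [h3, Multiset.prod_replicate]
        rw [Multiset.prod_map_pow, Multiset.map_id'] at h2
        have h3 : w ^ m * z ^ e = 1 := by
          rw [← h2, ← mul_pow, h1, one_pow]
        have h4 : z * z ^ e = 1 := by
          rw [← pow_succ']
          have : n = e + 1 := by omega
          rw [← this, hzn]
        have h5 : z ^ e ≠ 0 := by
          intro h
          rw [h, mul_zero] at h4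
          exact zero_ne_one h4
        exact mul_right_cancel₀ h5 (h3.trans h4.symm)
      · exact horb m z hz hm w hw
  · have hR := eq_orb hM hy (by rw [hcard, hper]; omega)
    refine ⟨by rw [hR]; exact orb_nodup _ _, fun m z hzn hz hm w hw => ?_⟩
    rw [hR] at hw
    exact horb m z hz hm w hw

/-- central powers -/
theorem pow_eq_of_ev (hF : Fintype.card F = q ^ 2) {v e : ℕ} (hv : v.Prime)
    (he : orderOf ((xv false q : ℤ) : ZMod v) = e) (he2 : 2 ≤ e) (hne : n ≤ e + 1) {Y : SU n F q} {y : E}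
    (hy : y ∈ evs E (mt Y)) (hvy : v ∣ orderOf y) {m : ℕ} {ζ : F} (hζn : ζ ^ n = 1) (hζq : ζ ^ (q + 1) = 1)
    (hm : y ^ m = algebraMap F E ζ) : pr n F q Y ^ m = 1 := by
  rcases Nat.eq_zero_or_pos m with rfl | hm0
  · rw [pow_zero]
  obtain ⟨hnd, hall⟩ := evs_struct hF hv he he2 hne hy hvy
  have h1 := pow_eq_smul_of_nodup E hm0 (c := ζ) hnd
    (hall m _ (by rw [← map_pow, hζn, map_one]) (by rw [← map_pow, hζq, map_one]) hm)
  rw [← mt_pow] at h1
  rw [← map_pow, pr_eq_one_iff, Subgroup.mem_center_iff]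
  intro g
  apply mt_inj
  rw [mt_mul, mt_mul, h1, Matrix.smul_mul, Matrix.mul_smul, Matrix.one_mul, Matrix.mul_one]

end ev

/-- `v ∣ orderOf (x ^ k)` if `v ∤ k` -/
theorem dvd_orderOf_pow {G : Type*} [Group G] [Finite G] {v : ℕ} (hv : v.Prime) {x : G} (hx : v ∣ orderOf x) {k : ℕ}
    (hk : ¬ v ∣ k) : v ∣ orderOf (x ^ k) := by
  have h1 : orderOf (x ^ k) * Nat.gcd (orderOf x) k = orderOf x := by
    rw [orderOf_pow, Nat.div_mul_cancel (Nat.gcd_dvd_left _ _)]
  rw [← h1] at hx
  exact (hv.dvd_mul.1 hx).resolve_right fun h => hk (h.trans (Nat.gcd_dvd_right _ _))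

/-- **Fusion**: pairwise `Aut`-conjugate elements of `⟨x⟩`, `v ∣ orderOf x` -/
theorem card_fuse (hF : Fintype.card F = q ^ 2) (hn : 3 ≤ n) (h32 : ¬ (n = 3 ∧ q = 2)) {v e : ℕ} (hv : v.Prime)
    (he : orderOf ((xv false q : ℤ) : ZMod v) = e) (he2 : 2 ≤ e) (hne : n ≤ e + 1) {x : PSU n F q}
    (hx : v ∣ orderOf x) (P : Finset ℕ) (hP : ∀ k ∈ P, k < orderOf x) (k0 : ℕ)
    (hk0 : ∀ k ∈ P, ∃ φ : PSU n F q ≃* PSU n F q, φ (x ^ k0) = x ^ k) :
    P.card ≤ Nat.card (F ≃+* F) * n := by
  classical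
  have := Fact.mk hv
  obtain ⟨p, f, hp, hch, hk, hf0⟩ := exists_prime_pow hF
  have := Fact.mk hp
  have hvp : v ≠ p := by
    rintro rfl
    exact not_dvd_q hv he (by omega) (by rw [hk]; exact dvd_pow_self v hf0.ne')
  let E := AlgebraicClosure F
  obtain ⟨Y, rfl⟩ := pr_surjective x
  obtain ⟨a, ha, hva⟩ := Cfsg.Agent.H559.UnitMult.exists_root (K := E) p Y hv hvp hx
  have haR : a ∈ evs E (mt Y) := by
    rw [mem_evs_iff]
    exact (Polynomial.mem_roots'.1 ha).2
  obtain ⟨u, hu, hua⟩ := exists_vec haR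
  have hmat : ∀ Z : SU n F q, mat Z = mt Z := fun Z => rfl
  -- for each `k` the data of the automorphism
  have hdat : ∀ k ∈ P, ∃ (ρ : F ≃+* F) (c : F), c ≠ 0 ∧ c ^ n = 1 ∧ c ^ (q + 1) = 1 ∧
      (algebraMap F E c)⁻¹ * a ^ k ∈ (((mat (Y ^ k0)).map ρ).charpoly.map (algebraMap F E)).roots := by
    intro k hkP
    obtain ⟨φ, hφ⟩ := hk0 k hkP
    rw [← map_pow, ← map_pow] at hφ
    obtain ⟨A, B, ρ, c, hAB, hcn, hcq, hM⟩ := Cfsg.Agent.H251.Small.aut_mat hF hn h32 φ hφ
    have hc0 : c ≠ 0 := by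
      rintro rfl
      rw [zero_pow (Nat.succ_ne_zero q)] at hcq
      exact zero_ne_one hcq
    refine ⟨ρ, c, hc0, hcn, hcq, ?_⟩
    have hBA : B * A = 1 := _root_.mul_eq_one_comm.1 hAB
    have hcE : algebraMap F E c ≠ 0 := fun h => hc0 ((algebraMap F E).injective (by rw [h, map_zero]))
    -- the eigenvector
    have h1 : (mE E (Y ^ k)).mulVec u = a ^ k • u := by
      have : ∀ j : ℕ, (mE E (Y ^ j)).mulVec u = a ^ j • u := by
        intro j
        induction j with
        | zero => rw [pow_zero, mE_one, Matrix.one_mulVec, pow_zero, one_smul]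
        | succ j ih =>
          rw [pow_succ, mE_mul, ← Matrix.mulVec_mulVec, hua, Matrix.mulVec_smul, ih, smul_smul, pow_succ, mul_comm]
      exact this k
    have h2 : mE E (Y ^ k) = algebraMap F E c • (A * (mat (Y ^ k0)).map ρ * B).map (algebraMap F E) := by
      rw [mE, ← hmat, hM, RingHom.mapMatrix_apply]
      ext i j
      rw [Matrix.map_apply, Matrix.smul_apply, Matrix.smul_apply, Matrix.map_apply, smul_eq_mul, smul_eq_mul, map_mul]
    have h3 : ((A * (mat (Y ^ k0)).map ρ * B).map (algebraMap F E)).mulVec u = ((algebraMap F E c)⁻¹ * a ^ k) • u := by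
      rw [h2, Matrix.smul_mulVec] at h1
      rw [mul_smul, ← h1, smul_smul, inv_mul_cancel₀ hcE, one_smul]
    have h4 : ((A * (mat (Y ^ k0)).map ρ * B).map (algebraMap F E)).charpoly.IsRoot ((algebraMap F E c)⁻¹ * a ^ k) := by
      rw [← Matrix.mem_spectrum_iff_isRoot_charpoly, ← Matrix.spectrum_toLin',
        ← Module.End.hasEigenvalue_iff_mem_spectrum]
      refine Module.End.hasEigenvalue_of_hasEigenvector (x := u) ⟨Module.End.mem_eigenspace_iff.2 ?_, hu⟩
      rw [Matrix.toLin'_apply, h3]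
    rw [Matrix.charpoly_map] at h4
    have h5 : (A * (mat (Y ^ k0)).map ρ * B).charpoly = ((mat (Y ^ k0)).map ρ).charpoly := by
      rw [Matrix.charpoly_mul_comm, ← Matrix.mul_assoc, hBA, Matrix.one_mul]
    rw [h5] at h4
    exact (Polynomial.mem_roots ((Matrix.charpoly_monic _).map _).ne_zero).2 h4
  choose! ρ c hc0 hcn hcq hmem using hdat
  have : Finite (F ≃+* F) := Finite.of_injective (fun f : F ≃+* F => (f : F → F)) DFunLike.coe_injective
  have := Fintype.ofFinite (F ≃+* F)
  have hsub : P.image (fun k => (algebraMap F E (c k))⁻¹ * a ^ k) ⊆ (Finset.univ : Finset (F ≃+* F)).biUnion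
      fun ρ => (((mat (Y ^ k0)).map ρ).charpoly.map (algebraMap F E)).roots.toFinset := by
    intro b hb
    obtain ⟨k, hkP, rfl⟩ := Finset.mem_image.1 hb
    rw [Finset.mem_biUnion]
    exact ⟨ρ k, Finset.mem_univ _, Multiset.mem_toFinset.2 (hmem k hkP)⟩
  have ha0 : a ≠ 0 := (cl_mt hF Y).ne_zero haR
  have key : ∀ k ∈ P, ∀ l ∈ P, l ≤ k → (algebraMap F E (c k))⁻¹ * a ^ k = (algebraMap F E (c l))⁻¹ * a ^ l → k = l := by
    intro k hkP l hlP hlk h
    have hck : algebraMap F E (c k) ≠ 0 := fun h => hc0 k hkP ((algebraMap F E).injective (by rw [h, map_zero]))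
    have hcl : algebraMap F E (c l) ≠ 0 := fun h => hc0 l hlP ((algebraMap F E).injective (by rw [h, map_zero]))
    have h1 : a ^ (k - l) = algebraMap F E (c k * (c l)⁻¹) := by
      have h2 : a ^ k = a ^ (k - l) * a ^ l := by rw [← pow_add, Nat.sub_add_cancel hlk]
      rw [h2] at h
      have h3 : a ^ l ≠ 0 := pow_ne_zero _ ha0
      rw [map_mul, map_inv₀]
      have h4 : a ^ (k - l) * a ^ l = (algebraMap F E (c k) * (algebraMap F E (c l))⁻¹) * a ^ l := by
        rw [mul_assoc, ← h, mul_inv_cancel_left₀ hck]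
      exact mul_right_cancel₀ h3 h4
    have h2 := pow_eq_of_ev hF hv he he2 hne haR hva (m := k - l) (ζ := c k * (c l)⁻¹)
      (by rw [mul_pow, inv_pow, hcn k hkP, hcn l hlP, inv_one, mul_one])
      (by rw [mul_pow, inv_pow, hcq k hkP, hcq l hlP, inv_one, mul_one]) h1
    have h3 := orderOf_dvd_of_pow_eq_one h2
    have h4 := hP k hkP
    rcases Nat.eq_zero_or_pos (k - l) with h5 | h5
    · omega
    · have := Nat.le_of_dvd h5 h3
      omega
  have hinj : (P.image (fun k => (algebraMap F E (c k))⁻¹ * a ^ k)).card = P.card := by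
    rw [Finset.card_image_of_injOn]
    intro k hk l hl hkl
    rcases le_total l k with h | h
    · exact key k hk l hl h hkl
    · exact (key l hl k hk h hkl.symm).symm
  rw [← hinj]
  refine (Finset.card_le_card hsub).trans (Finset.card_biUnion_le.trans ?_)
  have h5 : ∀ ρ ∈ (Finset.univ : Finset (F ≃+* F)),
      ((((mat (Y ^ k0)).map ρ).charpoly.map (algebraMap F E)).roots.toFinset).card ≤ n := by
    intro ρ _
    refine (Multiset.toFinset_card_le _).trans ((Polynomial.card_roots' _).trans ?_)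
    rw [Polynomial.natDegree_map, Matrix.charpoly_natDegree_eq_dim, Fintype.card_fin]
  refine (Finset.sum_le_card_nsmul _ _ _ h5).trans ?_
  rw [smul_eq_mul, Finset.card_univ, Nat.card_eq_fintype_card]

/-- the number of exponents below `v * m` not divisible by `v` -/
theorem card_not_dvd {v m : ℕ} (hv : 0 < v) : ((Finset.range (v * m)).filter fun k => ¬ v ∣ k).card + m = v * m := by
  classical
  have h1 : ((Finset.range (v * m)).filter fun k => v ∣ k).card = m := by
    have h2 : (Finset.range (v * m)).filter (fun k => v ∣ k) = (Finset.range m).image fun k => v * k := by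
      ext k
      simp only [Finset.mem_filter, Finset.mem_range, Finset.mem_image]
      constructor
      · rintro ⟨h3, j, rfl⟩
        exact ⟨j, Nat.lt_of_mul_lt_mul_left h3, rfl⟩
      · rintro ⟨j, hj, rfl⟩
        exact ⟨Nat.mul_lt_mul_of_pos_left hj hv, dvd_mul_right _ _⟩
    rw [h2, Finset.card_image_of_injective _ fun a b hab => Nat.eq_of_mul_eq_mul_left hv hab, Finset.card_range]
  have h3 := Finset.card_filter_add_card_filter_not (s := Finset.range (v * m)) (fun k => v ∣ k)
  rw [h1, Finset.card_range] at h3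
  omega

/-- **The bound.** -/
theorem scc_bound (hF : Fintype.card F = q ^ 2) (hn : 3 ≤ n) (h32 : ¬ (n = 3 ∧ q = 2)) {v e : ℕ} (hv : v.Prime)
    (he : orderOf ((xv false q : ℤ) : ZMod v) = e) (he2 : 2 ≤ e) (hne : n ≤ e + 1) {x : PSU n F q}
    (hx : v ∣ orderOf x) (h : SCC (PSU n F q) v) :
    orderOf x ≤ 2 * (Nat.card (F ≃+* F) * n) + orderOf x / v := by
  classical
  have hfin : Finite (PSU n F q) := inferInstance
  obtain ⟨α, β, hαβ⟩ := h
  obtain ⟨m, hm⟩ := hx
  have hx : v ∣ orderOf x := ⟨m, hm⟩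
  set P := (Finset.range (orderOf x)).filter fun k => ¬ v ∣ k with hPdef
  have hP : P.card + m = orderOf x := by
    rw [hPdef, hm]
    exact card_not_dvd hv.pos
  obtain ⟨C, hC⟩ : ∃ C : PSU n F q → ℕ → Prop, ∀ γ k, C γ k ↔ ∃ φ : PSU n F q ≃* PSU n F q, φ γ = x ^ k :=
    ⟨_, fun _ _ => Iff.rfl⟩
  have hPm : ∀ k, k ∈ P ↔ k < orderOf x ∧ ¬ v ∣ k := fun k => by rw [hPdef, Finset.mem_filter, Finset.mem_range]
  clear_value P
  have hcl : ∀ γ : PSU n F q, (P.filter fun k => C γ k).card ≤ Nat.card (F ≃+* F) * n := by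
    intro γ
    rcases Finset.eq_empty_or_nonempty (P.filter fun k => C γ k) with h0 | ⟨k0, hk0⟩
    · rw [h0, Finset.card_empty]
      exact Nat.zero_le _
    · obtain ⟨φ0, hφ0⟩ := (hC _ _).1 (Finset.mem_filter.1 hk0).2
      refine card_fuse hF hn h32 hv he he2 hne hx _ (fun k hk => ?_) k0 fun k hk => ?_
      · exact ((hPm k).1 (Finset.mem_filter.1 hk).1).1
      · obtain ⟨φ, hφ⟩ := (hC _ _).1 (Finset.mem_filter.1 hk).2
        refine ⟨φ0.symm.trans φ, ?_⟩
        rw [MulEquiv.trans_apply, ← hφ0, MulEquiv.symm_apply_apply, hφ]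
  have hunion : P ⊆ (P.filter fun k => C α k) ∪ (P.filter fun k => C β k) := by
    intro k hk
    rw [Finset.mem_union, Finset.mem_filter, Finset.mem_filter, hC, hC]
    have h1 : v ∣ orderOf (x ^ k) := dvd_orderOf_pow hv hx ((hPm k).1 hk).2
    rcases hαβ _ h1 with h2 | h2
    · exact Or.inl ⟨hk, h2⟩
    · exact Or.inr ⟨hk, h2⟩
  have h1 := (Finset.card_le_card hunion).trans (Finset.card_union_le _ _)
  have h2 := hcl α
  have h3 := hcl β
  have h4 : orderOf x / v = m := by rw [hm, Nat.mul_div_cancel_left _ hv.pos]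
  omega

end Cfsg.Agent.H372.DerU
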