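import Cfsg.Agent.H372.DerU.Ntc
import Cfsg.Agent.H410.DerPsuB
import Cfsg.Agent.Lib.FieldAutCard

/-!
# S3502, the row `PSU₃(q)`: `NTC` for `q ≥ 7`, `q ≠ 8` (helper372)
-/

set_option autoImplicit false
set_option linter.unusedSectionVars false
set_option linter.unusedVariables false

namespace Cfsg.Agent.H372.DerU

open Cfsg Matrix
open Cfsg.Agent.H439.Der Cfsg.Agent.H403 Cfsg.Agent.H403.NumTop
open Cfsg.Agent.LieClassical.HermBasic Cfsg.Agent.LieClassical.HermSiegel Cfsg.Agent.LieClassical.SUBasic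
open Cfsg.Agent.ClassicalGeometry.PSUAutBasic
open Cfsg.Agent.H948.UBase Cfsg.Agent.H948.UProd Cfsg.Agent.H948.UTorus Cfsg.Agent.H948.UMain
open Cfsg.Agent.H410.DerPsu (exists_w exists_z exists_block)
open Cfsg.Agent.Phan (emb emb_injective)

section aut

variable {F : Type} [Field F] [Fintype F] {n q : ℕ}

/-- a quadratic equation is preserved by automorphisms -/
theorem quad_of_aut (hF : Fintype.card F = q ^ 2) (hn : 3 ≤ n) (h32 : ¬ (n = 3 ∧ q = 2)) (φ : PSU n F q ≃* PSU n F q)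
    {X Y : SU n F q} (h : φ (pr n F q X) = pr n F q Y) {α β : F}
    (hX : (mat X - α • (1 : Matrix (Fin n) (Fin n) F)) * (mat X - β • (1 : Matrix (Fin n) (Fin n) F)) = 0) :
    ∃ α' β' : F, (mat Y - α' • (1 : Matrix (Fin n) (Fin n) F)) * (mat Y - β' • (1 : Matrix (Fin n) (Fin n) F)) = 0 := by
  obtain ⟨A, B, ρ, c, hAB, -, -, hM⟩ := Cfsg.Agent.H251.Small.aut_mat hF hn h32 φ h
  have hBA : B * A = 1 := _root_.mul_eq_one_comm.1 hAB
  let R : Matrix (Fin n) (Fin n) F →+* Matrix (Fin n) (Fin n) F := (ρ : F →+* F).mapMatrix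
  have hR : (mat X).map ρ = R (mat X) := rfl
  have hRs : ∀ a : F, R (a • (1 : Matrix (Fin n) (Fin n) F)) = ρ a • (1 : Matrix (Fin n) (Fin n) F) := by
    intro a
    ext i j
    show ρ ((a • (1 : Matrix (Fin n) (Fin n) F)) i j) = _
    rw [Matrix.smul_apply, Matrix.smul_apply, Matrix.one_apply]
    split_ifs <;> simp
  have h1 : ∀ a : F, mat Y - (c * ρ a) • (1 : Matrix (Fin n) (Fin n) F) =
      c • (A * R (mat X - a • (1 : Matrix (Fin n) (Fin n) F)) * B) := by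
    intro a
    rw [map_sub, hRs, Matrix.mul_sub, Matrix.sub_mul, smul_sub, hM, hR, Matrix.mul_smul, Matrix.mul_one,
      Matrix.smul_mul, hAB, smul_smul]
  refine ⟨c * ρ α, c * ρ β, ?_⟩
  rw [h1, h1, Matrix.smul_mul, Matrix.mul_smul]
  have h2 : A * R (mat X - α • (1 : Matrix (Fin n) (Fin n) F)) * B *
      (A * R (mat X - β • (1 : Matrix (Fin n) (Fin n) F)) * B) = 0 := by
    calc _ = A * (R (mat X - α • (1 : Matrix (Fin n) (Fin n) F)) * (B * A) *
          R (mat X - β • (1 : Matrix (Fin n) (Fin n) F))) * B := by simp only [Matrix.mul_assoc]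
      _ = 0 := by rw [hBA, Matrix.mul_one, ← map_mul, hX, map_zero, Matrix.mul_zero, Matrix.zero_mul]
  rw [h2, smul_zero, smul_zero]

end aut

variable {F : Type} [Field F] [Fintype F] {q : ℕ}

/-- the diagonal matrices of `SU₃` -/
theorem exists_delta (hF : Fintype.card F = q ^ 2) {a b : F} (ha : a ^ (q + 1) = 1) (hb : b ^ (q + 1) = 1) :
    ∃ D : SU 3 F q, mat D = Matrix.diagonal ![a, b, (a * b)⁻¹] := by
  have ha0 : a ≠ 0 := by
    rintro rfl
    rw [zero_pow (Nat.succ_ne_zero q)] at ha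
    exact zero_ne_one ha
  have hb0 : b ≠ 0 := by
    rintro rfl
    rw [zero_pow (Nat.succ_ne_zero q)] at hb
    exact zero_ne_one hb
  refine ⟨suDiag q ![a, b, (a * b)⁻¹] ?_ ?_, rfl⟩
  · rw [Fin.prod_univ_three]
    simp only [Matrix.cons_val_zero, Matrix.cons_val_one, Matrix.cons_val]
    exact mul_inv_cancel₀ (mul_ne_zero ha0 hb0)
  · intro i
    fin_cases i
    · exact ha
    · exact hb
    · show ((a * b)⁻¹) ^ (q + 1) = 1
      rw [inv_pow, mul_pow, ha, hb, one_mul, inv_one]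

theorem mat_pow' {n : ℕ} (g : SU n F q) (k : ℕ) : mat (g ^ k) = mat g ^ k := Cfsg.Agent.H219.RowPsu.mat_pow g k

theorem diag_pow (a b c : F) (j : ℕ) :
    (Matrix.diagonal ![a, b, c] : Matrix (Fin 3) (Fin 3) F) ^ j = Matrix.diagonal ![a ^ j, b ^ j, c ^ j] := by
  rw [Matrix.diagonal_pow]
  congr 1
  funext i
  fin_cases i <;> rfl

/-- powers of the diagonal matrices -/
theorem pr_delta_pow (hF : Fintype.card F = q ^ 2) {a b : F} (ha : a ≠ 0) (hb : b ≠ 0) {D : SU 3 F q}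
    (hD : mat D = Matrix.diagonal ![a, b, (a * b)⁻¹]) (j : ℕ) :
    pr 3 F q D ^ j = 1 ↔ a ^ j = b ^ j ∧ a ^ (3 * j) = 1 := by
  have hm : mat (D ^ j) = Matrix.diagonal ![a ^ j, b ^ j, ((a * b)⁻¹) ^ j] := by rw [mat_pow', hD, diag_pow]
  constructor
  · intro h
    have h1 : pr 3 F q 1 = pr 3 F q (D ^ j) := by rw [map_pow, h, map_one]
    obtain ⟨c, -, -, hc⟩ := Cfsg.Agent.H251.Small.mat_pr hF le_rfl h1
    rw [hm, mat_one] at hc
    have e : ∀ i : Fin 3, (![a ^ j, b ^ j, ((a * b)⁻¹) ^ j] : Fin 3 → F) i = c := by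
      intro i
      have := congrFun (congrFun hc i) i
      rwa [Matrix.diagonal_apply_eq, Matrix.smul_apply, Matrix.one_apply_eq, smul_eq_mul, mul_one] at this
    have e0 : a ^ j = c := e 0
    have e1 : b ^ j = c := e 1
    have e2 : ((a * b)⁻¹) ^ j = c := e 2
    refine ⟨by rw [e0, e1], ?_⟩
    have e3 : (a * b) ^ j ≠ 0 := pow_ne_zero _ (mul_ne_zero ha hb)
    have e4 : c * (c * c) = 1 := by
      have : (c * c) * ((a * b)⁻¹) ^ j = 1 := by
        rw [← e0]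
        nth_rewrite 2 [e0]
        rw [← e1, ← mul_pow, inv_pow, mul_inv_cancel₀ e3]
      rw [e2] at this
      rw [← this]; ring
    calc a ^ (3 * j) = a ^ j * (a ^ j * a ^ j) := by ring
      _ = 1 := by rw [e0, e4]
  · rintro ⟨h1, h2⟩
    rw [← map_pow, pr_eq_one_iff]
    have h3 : ((a * b)⁻¹) ^ j = a ^ j := by
      rw [inv_pow, mul_pow, ← h1]
      refine inv_eq_of_mul_eq_one_right ?_
      rw [← h2]; ring
    refine mem_center_of_act (c := a ^ j) fun v => ?_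
    funext i
    rw [act_def, hm, Matrix.mulVec_diagonal, Pi.smul_apply, smul_eq_mul]
    congr 1
    fin_cases i
    · rfl
    · exact h1.symm
    · exact h3

/-- **`v = 3`, `9 ∤ q + 1`** -/
theorem not_scc_three (hF : Fintype.card F = q ^ 2) (hq : 7 ≤ q) (h3 : 3 ∣ q + 1) (h9 : ¬ 9 ∣ q + 1) :
    ¬ SCC (PSU 3 F q) 3 := by
  have hfin : Finite (PSU 3 F q) := inferInstance
  obtain ⟨m, hm⟩ := h3
  have hm3 : ¬ 3 ∣ m := by
    rintro ⟨t, rfl⟩
    exact h9 ⟨t, by rw [hm]; ring⟩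
  have hm4 : 3 ≤ m := by omega
  have hdvd : q + 1 ∣ q ^ 2 - 1 := by rw [H372.FxU.sq_sub hF]; exact dvd_mul_left _ _
  obtain ⟨w, hw0, hw⟩ := H372.FxU.exists_unit hF (s := 3) ((Dvd.intro m hm.symm : 3 ∣ q + 1).trans hdvd)
  obtain ⟨c, hc0, hc⟩ := H372.FxU.exists_unit hF (s := m) ((Dvd.intro_left 3 hm.symm : m ∣ q + 1).trans hdvd)
  have hw1 : w ^ 3 = 1 := by rw [← hw]; exact pow_orderOf_eq_one w
  have hcm : c ^ m = 1 := by rw [← hc]; exact pow_orderOf_eq_one c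
  have hwq : w ^ (q + 1) = 1 := by rw [hm, pow_mul, hw1, one_pow]
  have hcq : c ^ (q + 1) = 1 := by rw [hm, mul_comm, pow_mul, hcm, one_pow]
  have hwne : w ≠ 1 := by
    rintro rfl
    rw [orderOf_one] at hw
    omega
  have hwm : w ^ m ≠ 1 := fun h => hm3 (hw ▸ orderOf_dvd_of_pow_eq_one h)
  have hci : ∀ j : ℕ, c ^ j = 1 → m ∣ j := fun j h => hc ▸ orderOf_dvd_of_pow_eq_one h
  have hcop : Nat.Coprime m 3 := ((Nat.Prime.coprime_iff_not_dvd Nat.prime_three).2 hm3).symm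
  have hc3 : c ^ 3 ≠ 1 := by
    intro h
    have h1 := Nat.le_of_dvd (by norm_num) (hci 3 h)
    have : m = 3 := by omega
    exact hm3 ⟨1, by omega⟩
  have hc6 : c ^ 6 ≠ 1 := by
    intro h
    have h1 : m ∣ 2 := (hcop.dvd_of_dvd_mul_right (by norm_num; exact hci 6 h : m ∣ 2 * 3))
    have := Nat.le_of_dvd (by norm_num) h1
    omega
  have hc9 : c ^ 9 ≠ 1 := by
    intro h
    have h1 : m ∣ 3 := (hcop.dvd_of_dvd_mul_right (by norm_num; exact hci 9 h : m ∣ 3 * 3))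
    have := Nat.le_of_dvd (by norm_num) h1
    have : m = 3 := by omega
    exact hm3 ⟨1, by omega⟩
  have hq' : ∀ x y : F, x ^ (q + 1) = 1 → y ^ (q + 1) = 1 → (x * y) ^ (q + 1) = 1 := fun x y h1 h2 => by
    rw [mul_pow, h1, h2, one_mul]
  have hwq2 : (w ^ 2) ^ (q + 1) = 1 := by rw [← pow_mul, mul_comm, pow_mul, hwq, one_pow]
  have hciq : (c⁻¹) ^ (q + 1) = 1 := by rw [inv_pow, hcq, inv_one]
  obtain ⟨X, hX⟩ := exists_delta hF hwq hwq2
  obtain ⟨U, hU⟩ := exists_delta hF (hq' _ _ hwq hcq) (hq' _ _ hwq2 hcq)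
  obtain ⟨V, hV⟩ := exists_delta hF (hq' _ _ hwq hcq) (hq' _ _ hwq2 hciq)
  have hwc0 : w * c ≠ 0 := mul_ne_zero hw0 hc0
  have hw2c0 : w ^ 2 * c ≠ 0 := mul_ne_zero (pow_ne_zero _ hw0) hc0
  have hw2c0' : w ^ 2 * c⁻¹ ≠ 0 := mul_ne_zero (pow_ne_zero _ hw0) (inv_ne_zero hc0)
  have hw6 : (w ^ 2) ^ 3 = 1 := by rw [← pow_mul, mul_comm, pow_mul, hw1, one_pow]
  have hwm2 : w ^ m ≠ (w ^ 2) ^ m := by
    intro h
    apply hwm
    have h1 : w ^ m * 1 = w ^ m * w ^ m := by rw [mul_one, ← mul_pow, ← pow_two]; exact h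
    exact (mul_left_cancel₀ (pow_ne_zero _ hw0) h1).symm
  -- the orders
  have oX : orderOf (pr 3 F q X) = 3 := by
    have : Fact (Nat.Prime 3) := ⟨Nat.prime_three⟩
    refine orderOf_eq_prime ((pr_delta_pow hF hw0 (pow_ne_zero _ hw0) hX 3).2 ⟨by rw [hw1, hw6], ?_⟩) ?_
    · rw [pow_mul, hw1, one_pow]
    · intro h
      have h1 := ((pr_delta_pow hF hw0 (pow_ne_zero _ hw0) hX 1).1 (by rw [pow_one]; exact h)).1
      rw [pow_one, pow_one, pow_two] at h1
      exact hwne (mul_left_cancel₀ hw0 (by rw [mul_one]; exact h1)).symm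
  have key : ∀ D : SU 3 F q, pr 3 F q D ^ m ≠ 1 → pr 3 F q D ^ (3 * m) = 1 → 3 ∣ orderOf (pr 3 F q D) := by
    intro D h1 h2
    by_contra h
    apply h1
    have h4 := orderOf_dvd_of_pow_eq_one h2
    have h5 : Nat.Coprime (orderOf (pr 3 F q D)) 3 := ((Nat.Prime.coprime_iff_not_dvd Nat.prime_three).2 h).symm
    exact orderOf_dvd_iff_pow_eq_one.1 (h5.dvd_of_dvd_mul_left h4)
  have hp3m : ∀ x : F, x ^ 3 = 1 → x ^ (3 * m) = 1 := fun x h => by rw [pow_mul, h, one_pow]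
  have hc3m : c ^ (3 * m) = 1 := by rw [mul_comm, pow_mul, hcm, one_pow]
  have oU : 3 ∣ orderOf (pr 3 F q U) := by
    refine key U (fun h => ?_) ((pr_delta_pow hF hwc0 hw2c0 hU _).2 ⟨?_, ?_⟩)
    · have h1 := ((pr_delta_pow hF hwc0 hw2c0 hU m).1 h).1
      rw [mul_pow, mul_pow, hcm, mul_one, mul_one] at h1
      exact hwm2 h1
    · rw [mul_pow, mul_pow, hp3m w hw1, hp3m _ hw6]
    · rw [mul_pow, mul_comm 3 (3 * m), pow_mul w, hp3m w hw1, one_pow, pow_mul c, hc3m, one_pow, one_mul]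
  have oV : 3 ∣ orderOf (pr 3 F q V) := by
    refine key V (fun h => ?_) ((pr_delta_pow hF hwc0 hw2c0' hV _).2 ⟨?_, ?_⟩)
    · have h1 := ((pr_delta_pow hF hwc0 hw2c0' hV m).1 h).1
      rw [mul_pow, mul_pow, inv_pow, hcm, inv_one, mul_one, mul_one] at h1
      exact hwm2 h1
    · rw [mul_pow, mul_pow, inv_pow, hp3m w hw1, hp3m _ hw6, hc3m, inv_one]
    · rw [mul_pow, mul_comm 3 (3 * m), pow_mul w, hp3m w hw1, one_pow, pow_mul c, hc3m, one_pow, one_mul]
  have nU : orderOf (pr 3 F q U) ≠ 3 := by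
    intro h
    have h1 := (pr_delta_pow hF hwc0 hw2c0 hU 3).1 (orderOf_dvd_iff_pow_eq_one.1 (by rw [h]))
    have h2 := h1.2
    rw [mul_pow, pow_mul w, hw1, one_pow, one_mul] at h2
    exact hc9 (by norm_num at h2; exact h2)
  have hc3i : c ^ 3 ≠ (c⁻¹) ^ 3 := by
    intro h
    apply hc6
    rw [inv_pow] at h
    calc c ^ 6 = c ^ 3 * c ^ 3 := by ring
      _ = (c ^ 3)⁻¹ * c ^ 3 := by rw [← h]
      _ = 1 := inv_mul_cancel₀ (pow_ne_zero _ hc0)
  have nV : orderOf (pr 3 F q V) ≠ 3 := by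
    intro h
    have h1 := ((pr_delta_pow hF hwc0 hw2c0' hV 3).1 (orderOf_dvd_iff_pow_eq_one.1 (by rw [h]))).1
    rw [mul_pow, mul_pow, hw1, hw6, one_mul, one_mul] at h1
    exact hc3i h1
  refine not_SCC_of_three (x := pr 3 F q X) (y := pr 3 F q U) (z := pr 3 F q V) (by rw [oX]) oU oV ?_ ?_ ?_
  · intro φ hφ
    exact nU (by rw [← hφ, Cfsg.Agent.H938.Sax.orderOf_mulEquiv, oX])
  · intro φ hφ
    exact nV (by rw [← hφ, Cfsg.Agent.H938.Sax.orderOf_mulEquiv, oX])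
  · intro φ hφ
    have hφ3 : φ (pr 3 F q (U ^ 3)) = pr 3 F q (V ^ 3) := by rw [map_pow, map_pow, hφ, map_pow]
    have eU : mat (U ^ 3) = Matrix.diagonal ![c ^ 3, c ^ 3, ((w * c) * (w ^ 2 * c))⁻¹ ^ 3] := by
      rw [mat_pow', hU, diag_pow, mul_pow, mul_pow, hw1, hw6, one_mul]
    have eV : mat (V ^ 3) = Matrix.diagonal ![c ^ 3, (c⁻¹) ^ 3, 1] := by
      rw [mat_pow', hV, diag_pow, mul_pow, mul_pow, hw1, hw6, one_mul, one_mul, inv_pow]
      congr 2
      have : ((w * c) * (w ^ 2 * c⁻¹)) = w ^ 3 * (c * c⁻¹) := by ring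
      rw [this, hw1, mul_inv_cancel₀ hc0, one_mul, inv_one, one_pow]
    have hsm : ∀ a : F, a • (1 : Matrix (Fin 3) (Fin 3) F) = Matrix.diagonal fun _ => a := fun a =>
      Matrix.smul_one_eq_diagonal a
    obtain ⟨α, β, hαβ⟩ := quad_of_aut hF le_rfl (by omega) φ hφ3 (α := c ^ 3)
      (β := ((w * c) * (w ^ 2 * c))⁻¹ ^ 3) (by
        rw [eU, hsm, hsm, Matrix.diagonal_sub, Matrix.diagonal_sub, Matrix.diagonal_mul_diagonal]
        rw [Matrix.diagonal_eq_zero]
        funext i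
        fin_cases i <;> simp)
    rw [eV, hsm, hsm, Matrix.diagonal_sub, Matrix.diagonal_sub, Matrix.diagonal_mul_diagonal,
      Matrix.diagonal_eq_zero] at hαβ
    have e0 : (c ^ 3 - α) * (c ^ 3 - β) = 0 := congrFun hαβ 0
    have e1 : ((c⁻¹) ^ 3 - α) * ((c⁻¹) ^ 3 - β) = 0 := congrFun hαβ 1
    have e2 : (1 - α) * (1 - β) = 0 := congrFun hαβ 2
    have hci3 : (c⁻¹) ^ 3 ≠ 1 := by
      rw [inv_pow]
      exact fun h => hc3 (inv_eq_one.1 h)
    rcases mul_eq_zero.1 e0 with h0 | h0 <;> rcases mul_eq_zero.1 e1 with h1 | h1 <;>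
      rcases mul_eq_zero.1 e2 with h2 | h2
    · exact hc3i ((sub_eq_zero.1 h0).trans (sub_eq_zero.1 h1).symm)
    · exact hc3i ((sub_eq_zero.1 h0).trans (sub_eq_zero.1 h1).symm)
    · exact hc3 ((sub_eq_zero.1 h0).trans (sub_eq_zero.1 h2).symm)
    · exact hci3 ((sub_eq_zero.1 h1).trans (sub_eq_zero.1 h2).symm)
    · exact hci3 ((sub_eq_zero.1 h1).trans (sub_eq_zero.1 h2).symm)
    · exact hc3 ((sub_eq_zero.1 h0).trans (sub_eq_zero.1 h2).symm)
    · exact hc3i ((sub_eq_zero.1 h0).trans (sub_eq_zero.1 h1).symm)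
    · exact hc3i ((sub_eq_zero.1 h0).trans (sub_eq_zero.1 h1).symm)

/-- **odd `v ∣ q + 1`**, `v ≠ 3` or `9 ∣ q + 1` -/
theorem not_scc_plus (hF : Fintype.card F = q ^ 2) (hq : 7 ≤ q) {v : ℕ} (hv : v.Prime) (h1 : v ∣ q + 1) (h2 : v ≠ 2)
    (h3 : v = 3 → 9 ∣ q + 1) : ¬ SCC (PSU 3 F q) v := by
  obtain ⟨z, hz, hc⟩ := exists_z hF hv h1 h3
  obtain ⟨p, hp, hpq⟩ := Nat.exists_prime_and_dvd (n := q) (by omega)
  obtain ⟨t, ht, htq⟩ := Nat.exists_prime_and_dvd (n := q - 1) (by omega)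
  have hsq := H372.FxU.sq_sub hF
  obtain ⟨a, ha⟩ := exists_block hF hp (Dvd.dvd.mul_right hpq _)
  obtain ⟨b, hb⟩ := exists_block hF ht (Dvd.dvd.mul_left (hsq ▸ Dvd.dvd.mul_right htq _) _)
  have hvp : v ≠ p := by
    rintro rfl
    exact hv.one_lt.ne' (Nat.dvd_one.1 ((Nat.dvd_add_right hpq).1 h1))
  have hvt : v ≠ t := by
    rintro rfl
    have h4 : v ∣ (q + 1) - (q - 1) := Nat.dvd_sub h1 htq
    have h5 : (q + 1) - (q - 1) = 2 := by omega
    rw [h5] at h4
    exact h2 ((Nat.prime_dvd_prime_iff_eq hv Nat.prime_two).1 h4)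
  have hpt : p ≠ t := by
    rintro rfl
    have h4 : p ∣ (q - 1) + 1 := by rwa [Nat.sub_add_cancel (by omega)]
    exact hp.one_lt.ne' (Nat.dvd_one.1 ((Nat.dvd_add_right htq).1 h4))
  exact not_SCC_of_comm hv.pos hz ha hz hb ((Nat.coprime_primes hv hp).2 hvp) ((Nat.coprime_primes hv ht).2 hvt)
    hp.one_lt.ne' ht.one_lt.ne' hpt (hc a).symm (hc b).symm

/-- **`v = 2`, `q` odd** -/
theorem not_scc_two (hF : Fintype.card F = q ^ 2) (hq : 7 ≤ q) (hodd : Odd q) : ¬ SCC (PSU 3 F q) 2 := by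
  have hfin : Finite (PSU 3 F q) := inferInstance
  obtain ⟨x, hx⟩ := Cfsg.Agent.H360.Iso.exists_subU hF (n := 3) le_rfl
  have e1 : ph q (3 - 2) = q ^ 2 - 1 := by
    show ph q 1 = _
    unfold ph
    rw [if_neg (by decide)]
  rw [e1] at hx
  have h8 : 8 ∣ orderOf x := by
    have h1 := (H372.FxU.eight_dvd hodd).trans hx
    refine Nat.Coprime.dvd_of_dvd_mul_right ?_ h1
    have h2 : Nat.gcd 3 (q + 1) ∣ 3 := Nat.gcd_dvd_left _ _
    rcases (Nat.dvd_prime Nat.prime_three).1 h2 with h | h <;> rw [h] <;> norm_num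
  obtain ⟨k, hk⟩ := h8
  have hk0 : k ≠ 0 := by
    rintro rfl
    have := orderOf_pos x
    omega
  have o : ∀ j : ℕ, j ∣ 8 → orderOf (x ^ (j * k)) = 8 / j := by
    intro j hj
    have hj0 : 0 < j := Nat.pos_of_dvd_of_pos hj (by norm_num)
    rw [orderOf_pow_of_dvd (Nat.mul_ne_zero hj0.ne' hk0) (by rw [hk]; exact Nat.mul_dvd_mul_right hj k), hk,
      Nat.mul_div_mul_right _ _ (Nat.pos_of_ne_zero hk0)]
  exact not_SCC_of_orders (x := x ^ (1 * k)) (y := x ^ (2 * k)) (z := x ^ (4 * k)) (by rw [o 1 (by norm_num)]; norm_num)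
    (by rw [o 2 (by norm_num)]; norm_num) (by rw [o 4 (by norm_num)])
    (by rw [o 1 (by norm_num), o 2 (by norm_num)]; norm_num) (by rw [o 1 (by norm_num), o 4 (by norm_num)]; norm_num)
    (by rw [o 2 (by norm_num), o 4 (by norm_num)]; norm_num)

/-- the central torus of the block -/
theorem exists_zz (hF : Fintype.card F = q ^ 2) : ∃ z : PSU 3 F q, orderOf z * Nat.gcd (q + 1) 3 = q + 1 ∧
    ∀ a : ↥(SU 2 F q), Commute (pr 3 F q (emb hF 0 (by omega) a)) z := by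
  have hdvd : q + 1 ∣ q ^ 2 - 1 := by rw [H372.FxU.sq_sub hF]; exact dvd_mul_left _ _
  obtain ⟨c, hc0, hc⟩ := H372.FxU.exists_unit hF hdvd
  have hc1 : c ^ (q + 1) = 1 := by rw [← hc]; exact pow_orderOf_eq_one c
  obtain ⟨z, hz, -, hz2⟩ := H372.FxU.exists_D hF (k := 2) le_rfl hc1
  refine ⟨pr 3 F q z, ?_, fun a => ?_⟩
  · have h1 : orderOf (pr 3 F q z) = orderOf (c ^ 3) := by
      refine orderOf_eq_orderOf_iff.2 fun j => ?_
      rw [← map_pow, pr_eq_one_iff, hz2, pow_mul]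
    rw [h1, orderOf_pow' _ (by norm_num), hc, Nat.div_mul_cancel (Nat.gcd_dvd_left _ _)]
  · show pr 3 F q _ * pr 3 F q z = pr 3 F q z * pr 3 F q _
    rw [← map_mul, hz a, map_mul]

/-- **the characteristic, `q` odd** -/
theorem not_scc_char_odd (hF : Fintype.card F = q ^ 2) (hq : 7 ≤ q) (hodd : Odd q) {p : ℕ} (hp : p.Prime)
    (hpq : p ∣ q) : ¬ SCC (PSU 3 F q) p := by
  have hfin : Finite (PSU 3 F q) := inferInstance
  obtain ⟨a, ha⟩ := exists_block hF hp (Dvd.dvd.mul_right hpq _)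
  obtain ⟨j, hj⟩ := hodd
  obtain ⟨z, hz, hc⟩ := exists_z hF Nat.prime_two ⟨j + 1, by omega⟩ (by omega)
  obtain ⟨y, hy, hcy⟩ := exists_zz hF
  have hyd : orderOf y ∣ q + 1 := Dvd.intro _ hy
  have hcop : ∀ {t : ℕ}, t ∣ q + 1 → Nat.Coprime p t := by
    intro t ht
    refine (Nat.Prime.coprime_iff_not_dvd hp).2 fun h => ?_
    exact hp.one_lt.ne' (Nat.dvd_one.1 ((Nat.dvd_add_right hpq).1 (h.trans ht)))
  have hg : Nat.gcd (q + 1) 3 = 1 ∨ Nat.gcd (q + 1) 3 = 3 := (Nat.dvd_prime Nat.prime_three).1 (Nat.gcd_dvd_right _ _)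
  refine not_SCC_of_comm (a := 2) (b := orderOf y) hp.pos ha hz ha rfl (hcop ⟨j + 1, by omega⟩) (hcop hyd) (by norm_num)
    ?_ ?_ (hc a) (hcy a)
  · intro h
    rw [h] at hy
    rcases hg with h | h <;> rw [h] at hy <;> omega
  · intro h
    rw [← h] at hy
    rcases hg with h | h <;> rw [h] at hy <;> omega

/-- **`p = 2`**: an element of order four -/
theorem exists_four (hF : Fintype.card F = q ^ 2) (heven : Even q) : ∃ x : PSU 3 F q, orderOf x = 4 := by
  have hq := two_le hF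
  have : Fact (Nat.Prime 2) := ⟨Nat.prime_two⟩
  have hch : CharP F 2 := by
    obtain ⟨p, k, hp, hch, hk, hk0⟩ := exists_prime_pow hF
    have h1 : 2 ∣ p ^ k := by rw [← hk]; exact heven.two_dvd
    have h2 : 2 = p := (Nat.prime_dvd_prime_iff_eq Nat.prime_two hp).1 (Nat.prime_two.dvd_of_dvd_pow h1)
    rw [h2]; exact hch
  obtain ⟨e, f, H⟩ := exists_frame (F := F) (q := q) (n := 3) hF (by norm_num)
  have hw : hermForm 3 F q (Pi.single 0 1) e = 0 := by
    refine ((H.mem _).1 ?_).1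
    intro i hi
    have : i ≠ 0 := by
      rintro rfl
      simp at hi
    rw [Pi.single_eq_of_ne this]
  have hww : hermForm 3 F q (Pi.single 0 1) (Pi.single 0 1) = 1 := by
    rw [herm_single_right hF, Pi.single_eq_same]
    simp
  obtain ⟨μ, hμ⟩ := exists_trace_eq hF (c := (1 : F)) (one_pow _)
  have h11 : (1 : F) + 1 = 0 := CharTwo.add_self_eq_zero 1
  have hS : IsSiegel q e (Pi.single 0 1) μ := ⟨H.ee, hw, by rw [hμ, hww, h11]⟩
  set s := siegel hF e (Pi.single 0 1) μ hS with hs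
  have hadd : ∀ v : Fin 3 → F, v + v = 0 := fun v => by
    funext i
    exact CharTwo.add_self_eq_zero _
  -- the square
  have h2 : ∀ v, act (s * s) v = v + hermForm 3 F q v e • e := by
    intro v
    rw [hs, siegel_mul hF hS hS, act_siegel]
    rw [hadd, herm_zero_right hF, hww, smul_zero, add_zero, sub_zero, CharTwo.add_self_eq_zero μ, zero_sub,
      CharTwo.neg_eq, one_mul]
  have hs2 : s ^ 2 ≠ 1 := by
    intro h
    have h3 := h2 f
    rw [← pow_two, h, act_one] at h3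
    have h4 : hermForm 3 F q f e = 1 := by rw [herm_swap hF e f, H.ef, one_pow]
    rw [h4, one_smul] at h3
    have h5 : e = 0 := by
      have : f + 0 = f + e := by rw [add_zero]; exact h3
      exact (add_left_cancel this).symm
    have h6 := H.ef
    rw [h5, herm_zero_left] at h6
    exact zero_ne_one h6
  have hs4 : s ^ 4 = 1 := by
    apply ext_act
    intro v
    have : s ^ 4 = (s * s) * (s * s) := by rw [← pow_two s, ← pow_add]
    rw [this, act_mul, h2, h2, act_one, herm_add_left, herm_smul_left, H.ee, mul_zero, add_zero, add_assoc, ← add_smul,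
      CharTwo.add_self_eq_zero, zero_smul, add_zero]
  refine ⟨pr 3 F q s, ?_⟩
  have h7 : orderOf (pr 3 F q s) = 2 ^ (1 + 1) := by
    refine orderOf_eq_prime_pow ?_ ?_
    · rw [pow_one, ← map_pow, pr_eq_one_iff]
      intro h8
      exact hs2 (eq_one_of_center_of_pow hF le_rfl (p := 2) h8 (k := 1) (by rw [pow_one, ← pow_mul]; exact hs4))
    · rw [← map_pow]
      show pr 3 F q (s ^ 4) = 1
      rw [hs4, map_one]
  rw [h7]
  norm_num

/-- **the characteristic, `q` even** -/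
theorem not_scc_char_even (hF : Fintype.card F = q ^ 2) (hq : 7 ≤ q) (heven : Even q) : ¬ SCC (PSU 3 F q) 2 := by
  obtain ⟨a, ha⟩ := exists_block hF Nat.prime_two (Dvd.dvd.mul_right heven.two_dvd _)
  obtain ⟨w, hw, hw1, hw3⟩ := exists_w (q := q) (by omega)
  obtain ⟨z, hz, hc⟩ := exists_z hF hw hw1 hw3
  obtain ⟨y, hy⟩ := exists_four hF heven
  have hw2 : w ≠ 2 := by
    rintro rfl
    have := heven.two_dvd
    omega
  have o : orderOf (pr 3 F q (emb hF 0 (by omega) a) * z) = 2 * w := by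
    rw [(hc a).orderOf_mul_eq_mul_orderOf_of_coprime (by rw [ha, hz]; exact (Nat.coprime_primes Nat.prime_two hw).2 hw2.symm),
      ha, hz]
  refine not_SCC_of_orders (x := pr 3 F q (emb hF 0 (by omega) a)) (y := pr 3 F q (emb hF 0 (by omega) a) * z) (z := y)
    (by rw [ha]) (by rw [o]; exact dvd_mul_right _ _) (by rw [hy]; norm_num) ?_ ?_ ?_
  · rw [ha, o]
    have := hw.two_le
    omega
  · rw [ha, hy]; norm_num
  · rw [hy, o]
    omega

/-! ### the large primes -/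

theorem two_mul_le : ∀ f : ℕ, 1 ≤ f → 2 * f ≤ 2 ^ f
  | 1, _ => by norm_num
  | n + 2, _ => by
    have := two_mul_le (n + 1) (by omega)
    rw [pow_succ]
    omega

/-- arithmetic -/
theorem arith {p f : ℕ} (hp : 2 ≤ p) (hf : 1 ≤ f) (hqf : q = p ^ f) (hq : 7 ≤ q) (h8 : q ≠ 8) :
    14 * f * Nat.gcd 3 (q + 1) + q < q ^ 2 + 1 ∧ 18 * f * Nat.gcd 3 (q + 1) + 1 < q ^ 2 := by
  have h1 := two_mul_le f hf
  have h2 : 2 ^ f ≤ q := by rw [hqf]; exact Nat.pow_le_pow_left hp f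
  rcases (Nat.dvd_prime Nat.prime_three).1 (Nat.gcd_dvd_left 3 (q + 1)) with hg | hg
  · rw [hg, mul_one, mul_one]
    have h7 : q = 7 ∨ 9 ≤ q := by omega
    rcases h7 with rfl | h9
    · have hf2 : f ≤ 2 := by
        by_contra hcon
        have : 2 ^ 3 ≤ 2 ^ f := Nat.pow_le_pow_right (by norm_num) (by omega)
        omega
      have hf1 : f ≠ 2 := by
        rintro rfl
        have : p < 3 := by
          by_contra hcon
          have : 3 ^ 2 ≤ p ^ 2 := Nat.pow_le_pow_left (by omega) 2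
          omega
        have : p = 2 := by omega
        subst this
        omega
      have : f = 1 := by omega
      subst this
      norm_num
    · rcases Nat.lt_or_ge q 10 with h10 | h10
      · have : q = 9 := by omega
        subst this
        have hf2 : f ≤ 3 := by
          by_contra hcon
          have : 2 ^ 4 ≤ 2 ^ f := Nat.pow_le_pow_right (by norm_num) (by omega)
          omega
        constructor <;> omega
      · have h6 : q * 10 ≤ q ^ 2 := by rw [pow_two]; exact Nat.mul_le_mul_left q h10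
        constructor <;> omega
  · have h3 : 3 ∣ q + 1 := hg ▸ Nat.gcd_dvd_right _ _
    have h4 := Cfsg.Agent.H410.DerPsu.arith_three hp hf hqf (by omega) h3 (by
      simp only [Finset.mem_insert, Finset.mem_singleton, not_or]
      omega)
    rw [hg]
    have h5 : q ≤ q ^ 2 := by rw [pow_two]; exact Nat.le_mul_of_pos_left q (by omega)
    constructor <;> omega

/-- the field automorphisms -/
theorem exists_pf (hF : Fintype.card F = q ^ 2) : ∃ p f : ℕ, 2 ≤ p ∧ 1 ≤ f ∧ q = p ^ f ∧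
    Nat.card (F ≃+* F) = 2 * f := by
  obtain ⟨p, k, hp, hch, hk, hk0⟩ := exists_prime_pow hF
  have := Fact.mk hp
  refine ⟨p, k, hp.two_le, hk0, hk, ?_⟩
  refine Cfsg.Agent.Lib.FieldAutCard.card_ringAut (p := p) (by omega) ?_
  rw [hF, hk, ← pow_mul, mul_comm]

/-- **primes dividing `q - 1`** -/
theorem not_scc_minus (hF : Fintype.card F = q ^ 2) (hq : 7 ≤ q) (h8 : q ≠ 8) {v : ℕ} (hv : v.Prime)
    (hvq1 : ¬ v ∣ q + 1) (hord : orderOf ((xv false q : ℤ) : ZMod v) = 2) (h : v ∣ ph q 1) :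
    ¬ SCC (PSU 3 F q) v := by
  intro hs
  have hfin : Finite (PSU 3 F q) := inferInstance
  have hvg : ¬ v ∣ Nat.gcd 3 (q + 1) := fun h => hvq1 (h.trans (Nat.gcd_dvd_right _ _))
  have hg0 : 0 < Nat.gcd 3 (q + 1) := Nat.gcd_pos_of_pos_left _ (by omega)
  obtain ⟨x, hx⟩ := Cfsg.Agent.H360.Iso.exists_subU hF (n := 3) le_rfl
  have hx' : ph q 1 ∣ orderOf x * Nat.gcd 3 (q + 1) := hx
  have h5 : v ∣ orderOf x := ((hv.dvd_mul).1 (h.trans hx')).resolve_right hvg
  have hb := scc_bound hF le_rfl (by omega) hv hord le_rfl (by omega) h5 hs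
  have hvn : 3 ≤ v := by
    have h6 := order_dvd_pred hv (by omega) hord
    have h7 := Nat.le_of_dvd (by have := hv.two_le; omega) h6
    omega
  have hN := Nat.le_of_dvd (Nat.mul_pos (orderOf_pos x) hg0) hx'
  have h9 := pow_le_ph q 1 (by omega)
  obtain ⟨p, f, hp, hf, hqf, hA⟩ := exists_pf hF
  obtain ⟨-, hI⟩ := arith hp hf hqf hq h8
  rw [hA] at hb
  have h10 : orderOf x / v ≤ orderOf x / 3 := Nat.div_le_div_left hvn (by omega)
  have h11 : orderOf x ≤ 18 * f := by omega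
  have h12 := Nat.mul_le_mul h11 (le_refl (Nat.gcd 3 (q + 1)))
  have e : q ^ (1 + 1) = q ^ 2 := rfl
  omega

/-- **primes dividing `q² - q + 1`** -/
theorem not_scc_large (hF : Fintype.card F = q ^ 2) (hq : 7 ≤ q) (h8 : q ≠ 8) {v : ℕ} (hv : v.Prime)
    (hvq1 : ¬ v ∣ q + 1) (hord : orderOf ((xv false q : ℤ) : ZMod v) = 3) (h : v ∣ ph q 2) :
    ¬ SCC (PSU 3 F q) v := by
  intro hs
  have hfin : Finite (PSU 3 F q) := inferInstance
  have hvg : ¬ v ∣ Nat.gcd 3 (q + 1) := fun h => hvq1 (h.trans (Nat.gcd_dvd_right _ _))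
  have hg0 : 0 < Nat.gcd 3 (q + 1) := Nat.gcd_pos_of_pos_left _ (by omega)
  obtain ⟨x, hx⟩ := Cfsg.Agent.H360.Iso.exists_topU hF (n := 3) le_rfl
  have hx' : ph q 2 ∣ orderOf x * Nat.gcd 3 (q + 1) * (q + 1) := hx
  have h5 : v ∣ orderOf x := ((hv.dvd_mul).1 (((hv.dvd_mul).1 (h.trans hx')).resolve_right hvq1)).resolve_right hvg
  have hb := scc_bound hF le_rfl (by omega) hv hord (by omega) (by omega) h5 hs
  have hvn : 7 ≤ v := by
    have h6 := order_dvd_pred hv (by omega) hord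
    have h7 := Nat.le_of_dvd (by have := hv.two_le; omega) h6
    by_contra hlt
    have : v = 4 ∨ v = 5 ∨ v = 6 := by omega
    rcases this with rfl | rfl | rfl
    · exact absurd hv (by norm_num)
    · omega
    · exact absurd hv (by norm_num)
  have hN := Nat.le_of_dvd (Nat.mul_pos (Nat.mul_pos (orderOf_pos x) hg0) (by omega)) hx'
  obtain ⟨p, f, hp, hf, hqf, hA⟩ := exists_pf hF
  obtain ⟨hI, -⟩ := arith hp hf hqf hq h8
  rw [hA] at hb
  have h10 : orderOf x / v ≤ orderOf x / 7 := Nat.div_le_div_left hvn (by omega)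
  have h11 : orderOf x ≤ 14 * f := by omega
  have h12 := Nat.mul_le_mul h11 (le_refl (Nat.gcd 3 (q + 1)))
  have e1 : ph q 2 = q ^ 3 + 1 := by unfold ph; rw [if_pos (by decide)]
  have e2 : q ^ 3 + 1 = (q ^ 2 - q + 1) * (q + 1) := Cfsg.Agent.H410.DerPsu.cube_fac (by omega)
  rw [e1, e2] at hN
  have h13 := Nat.le_of_mul_le_mul_right hN (by omega)
  omega

/-- **`NTC` for `PSU₃(q)`** -/
theorem ntc_psu3 (hF : Fintype.card F = q ^ 2) (hq : 7 ≤ q) (h8 : q ≠ 8) : NTC (PSU 3 F q) := by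
  intro v hv hd
  by_cases hvq : v ∣ q
  · rcases Nat.even_or_odd q with he | ho
    · obtain ⟨p, k, hp, -, hk, -⟩ := exists_prime_pow hF
      have h1 : v = 2 := by
        have e1 := (Nat.prime_dvd_prime_iff_eq hv hp).1 (hv.dvd_of_dvd_pow (hk ▸ hvq))
        have e2 := (Nat.prime_dvd_prime_iff_eq Nat.prime_two hp).1 (Nat.prime_two.dvd_of_dvd_pow (hk ▸ he.two_dvd))
        rw [e1, e2]
      subst h1
      exact not_scc_char_even hF hq he
    · exact not_scc_char_odd hF hq ho hv hvq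
  by_cases hvq1 : v ∣ q + 1
  · by_cases h2 : v = 2
    · subst h2
      refine not_scc_two hF hq ?_
      rcases Nat.even_or_odd q with he | ho
      · exact absurd he.two_dvd hvq
      · exact ho
    · by_cases h3 : v = 3 ∧ ¬ 9 ∣ q + 1
      · obtain ⟨rfl, h9⟩ := h3
        exact not_scc_three hF hq hvq1 h9
      · exact not_scc_plus hF hq hv hvq1 h2 fun h => by
          by_contra h9
          exact h3 ⟨h, h9⟩
  have hlt : ∀ i : ℕ, i < 3 - 2 → ¬ v ∣ ph q i := by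
    intro i hi
    have : i = 0 := by omega
    subst this
    rw [ph_zero]
    exact hvq1
  rcases (prime_dvd_card_PSU hF (by norm_num) hv hd) with h | ⟨i, hi, hid⟩
  · exact absurd h hvq
  have : i = 0 ∨ i = 1 ∨ i = 2 := by omega
  rcases this with rfl | rfl | rfl
  · exact absurd hid (hlt 0 (by norm_num))
  · exact not_scc_minus hF hq h8 hv hvq1 (order_sub (n := 3) (by omega) (by norm_num) hlt hid) hid
  · exact not_scc_large hF hq h8 hv hvq1 (order_top (n := 3) (by omega) (by norm_num) hlt hid) hid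

/-- **The row `PSU₃(q)` of S3502.** -/
theorem rowS_psu3 {F : Type} [Field F] [Fintype F] {q : ℕ} (hF : Fintype.card F = q ^ 2) (hq : 3 ≤ q)
    (hex : q ∉ ({3, 4, 5, 8} : Finset ℕ)) : RowS (Cfsg.PSU 3 F q) := by
  have hfin : Finite (PSU 3 F q) := Quotient.finite _
  have hq6 := ne_six hF
  simp only [Finset.mem_insert, Finset.mem_singleton, not_or] at hex
  exact RowS.of_pgap (ntc_psu3 hF (by omega) (by omega)) fun M hM =>
    Cfsg.Agent.H410.DerPsu.pgap_psu3 hF hq hex.1 hex.2.2.1 hM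

end Cfsg.Agent.H372.DerU
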