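import Cfsg.Agent.H372.DerU.Ntc
import Cfsg.Agent.H884.SaxU

/-!
# S3502, the row `PSU_n(q)`, `n ≥ 4` (helper372)
-/

set_option autoImplicit false

namespace Cfsg.Agent.H372.DerU

open Cfsg Cfsg.Agent.OrdDiv
open Cfsg.Agent.H439.Der Cfsg.Agent.LieClassical.HermBasic
open Cfsg.Agent.H948.UBase Cfsg.Agent.H948.UProd Cfsg.Agent.H948.UTorus Cfsg.Agent.H948.UMain

/-- the row `PSU_n(q)`, `n ≥ 4`; `PSU_5(4)` is a hypothesis -/
theorem rowS_psu_of (tab : OrderTable.{0}) (hK : ∀ (X : Type) [Group X] [Finite X] [IsSimpleGroup X],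
    Cfsg.IsKnownSimple' X) {F : Type} [Field F] [Fintype F] {n q : ℕ} (hF : Fintype.card F = q ^ 2) (hn : 4 ≤ n)
    (hex : (n, q) ∉ ({(4, 2), (4, 3), (5, 2), (6, 2)} : Finset (ℕ × ℕ)))
    (h54 : n = 5 → q = 4 → RowS (Cfsg.PSU n F q)) : RowS (Cfsg.PSU n F q) := by
  classical
  by_cases h : n = 5 ∧ q = 4
  · exact h54 h.1 h.2
  have hq : IsPrimePow q := by
    obtain ⟨p, k, hp, -, hk, hk0⟩ := exists_prime_pow hF
    exact (isPrimePow_nat_iff q).2 ⟨p, k, hp, hk0, hk.symm⟩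
  have hfin : Finite (Cfsg.PSU n F q) := Quotient.finite _
  have h2 : ¬ (q = 2 ∧ n ≤ 6) := by
    rintro ⟨rfl, h6⟩
    have h7 : n = 4 ∨ n = 5 ∨ n = 6 := by omega
    rcases h7 with rfl | rfl | rfl <;> exact hex (by decide)
  have h3 : ¬ (n = 4 ∧ q = 3) := by
    rintro ⟨rfl, rfl⟩
    exact hex (by decide)
  exact RowS.of_pgap (ntc_psu hF hn hex h) fun M hM => H884.Sax.miss_psu tab hK hF hq hn h2 h3 hM.1

end Cfsg.Agent.H372.DerU
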